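import Mathlib
import Cfsg.Prelude.Def_LieExceptional
import Cfsg.Agent.Lib.Helper1.SZ

set_option autoImplicit false
set_option linter.style.haveILetI false

namespace Cfsg.Agent.Lib.Helper12

open scoped commutatorElement

universe u v

/-- a subgroup of a nilpotent subgroup is nilpotent -/
theorem nilp_of_le {G : Type*} [Group G] {H K : Subgroup G} (h : H ≤ K)
    (hK : Group.IsNilpotent K) : Group.IsNilpotent H := by
  haveI := hK
  refine Subgroup.isNilpotent_of_ker_le_center (Subgroup.inclusion h) ?_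
  rw [(MonoidHom.ker_eq_bot_iff _).mpr (Subgroup.inclusion_injective h)]
  exact bot_le

/-- a `p`-power-order element generates a `p`-group -/
theorem isPGroup_zpowers_of_pow {K : Type*} [Group K] {p : ℕ} (hp : p.Prime) (a : K)
    (ha : ∃ k : ℕ, a ^ p ^ k = 1) : IsPGroup p (Subgroup.zpowers a) := by
  obtain ⟨k, hk⟩ := ha
  obtain ⟨j, -, hj⟩ := (Nat.dvd_prime_pow hp).mp (orderOf_dvd_of_pow_eq_one hk)
  exact IsPGroup.of_card (n := j) (by rw [Nat.card_zpowers, hj])

/-- in a finite nilpotent group, elements of prime power orders for distinct primes commute -/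
theorem nilp_comm {K : Type*} [Group K] [Finite K] (hK : Group.IsNilpotent K) {p q : ℕ}
    (hp : p.Prime) (hq : q.Prime) (hpq : p ≠ q) (a b : K) (ha : ∃ k : ℕ, a ^ p ^ k = 1)
    (hb : ∃ k : ℕ, b ^ q ^ k = 1) : a * b = b * a := by
  haveI := Fact.mk hp
  haveI := Fact.mk hq
  obtain ⟨P, hP⟩ := (isPGroup_zpowers_of_pow hp a ha).exists_le_sylow
  obtain ⟨Q, hQ⟩ := (isPGroup_zpowers_of_pow hq b hb).exists_le_sylow
  have hPn : (P : Subgroup K).Normal := inferInstance
  have hQn : (Q : Subgroup K).Normal := inferInstance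
  have hdis : Disjoint (P : Subgroup K) (Q : Subgroup K) :=
    IsPGroup.disjoint_of_ne p q hpq _ _ P.isPGroup' Q.isPGroup'
  exact Subgroup.commute_of_normal_of_disjoint _ _ hPn hQn hdis a b
    (hP (Subgroup.mem_zpowers a)) (hQ (Subgroup.mem_zpowers b))

/-- ambient version of `nilp_comm` -/
theorem nilp_comm_sub {G : Type*} [Group G] [Finite G] {C : Subgroup G}
    (hC : Group.IsNilpotent C) {p q : ℕ}
    (hp : p.Prime) (hq : q.Prime) (hpq : p ≠ q) (a b : G) (haC : a ∈ C) (hbC : b ∈ C)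
    (ha : ∃ k : ℕ, a ^ p ^ k = 1) (hb : ∃ k : ℕ, b ^ q ^ k = 1) : a * b = b * a := by
  have := nilp_comm hC hp hq hpq (⟨a, haC⟩ : C) ⟨b, hbC⟩
    (by obtain ⟨k, hk⟩ := ha; exact ⟨k, Subtype.ext (by simpa using hk)⟩)
    (by obtain ⟨k, hk⟩ := hb; exact ⟨k, Subtype.ext (by simpa using hk)⟩)
  exact congrArg Subtype.val this

/-- nilpotency criterion: elements of prime power orders for distinct primes commute -/
theorem nilp_of_comm {K : Type*} [Group K] [Finite K]
    (h : ∀ p q : ℕ, p.Prime → q.Prime → p ≠ q → ∀ a b : K, (∃ k : ℕ, a ^ p ^ k = 1) →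
      (∃ k : ℕ, b ^ q ^ k = 1) → a * b = b * a) :
    Group.IsNilpotent K := by
  refine ((Group.isNilpotent_of_finite_tfae (G := K)).out 3 0).mp ?_
  intro p hp P
  rw [← Subgroup.normalizer_eq_top_iff, ← Subgroup.index_eq_one,
    Nat.eq_one_iff_not_exists_prime_dvd]
  intro q hq hdvd
  haveI := Fact.mk hq
  by_cases hqp : q = p
  · subst hqp
    exact (Sylow.not_dvd_index P) (dvd_trans hdvd (Subgroup.index_dvd_of_le Subgroup.le_normalizer))
  · obtain ⟨Q⟩ : Nonempty (Sylow q K) := inferInstance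
    have hQle : (Q : Subgroup K) ≤ Subgroup.normalizer ((P : Subgroup K) : Set K) := by
      refine le_trans ?_ (Subgroup.centralizer_le_normalizer _)
      intro b hb
      rw [Subgroup.mem_centralizer_iff]
      intro a ha
      have hb' : ∃ k : ℕ, b ^ q ^ k = 1 := by
        obtain ⟨k, hk⟩ := Q.isPGroup' ⟨b, hb⟩
        exact ⟨k, by simpa using congrArg Subtype.val hk⟩
      have ha' : ∃ k : ℕ, a ^ p ^ k = 1 := by
        obtain ⟨k, hk⟩ := P.isPGroup' ⟨a, ha⟩
        exact ⟨k, by simpa using congrArg Subtype.val hk⟩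
      exact h p q hp.out hq (Ne.symm hqp) a b ha' hb'
    exact (Sylow.not_dvd_index Q) (dvd_trans hdvd (Subgroup.index_dvd_of_le hQle))

/-- lifting an element of order dividing `m` through a quotient by a normal subgroup of order
prime to `m` -/
theorem exists_lift_pow {G : Type*} [Group G] [Finite G] (N : Subgroup G) [N.Normal] (m : ℕ)
    (hcop : m.Coprime (Nat.card N)) (c : G ⧸ N) (h : c ^ m = 1) :
    ∃ y : G, (y : G ⧸ N) = c ∧ y ^ m = 1 := by
  obtain ⟨y0, rfl⟩ := QuotientGroup.mk_surjective c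
  have h0 : y0 ^ m ∈ N := by
    rw [← QuotientGroup.eq_one_iff, QuotientGroup.mk_pow]
    exact h
  have h1 : (y0 ^ m) ^ Nat.card N = 1 := by
    have e : ((⟨y0 ^ m, h0⟩ : N) ^ Nat.card N : N) = 1 := pow_card_eq_one'
    have := congrArg Subtype.val e
    simpa only [Subgroup.coe_pow, Subgroup.coe_one] using this
  rcases Nat.lt_or_ge 1 m with hm | hm
  · obtain ⟨t, -, ht⟩ := Nat.exists_mul_mod_eq_one_of_coprime (k := m) (n := Nat.card N)
      hcop.symm hm
    refine ⟨y0 ^ (Nat.card N * t), ?_, ?_⟩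
    · have hdm := Nat.div_add_mod (Nat.card N * t) m
      rw [ht] at hdm
      rw [QuotientGroup.mk_pow, ← hdm, pow_add, pow_mul, h, one_pow, one_mul, pow_one]
    · rw [← pow_mul, mul_comm (Nat.card N * t) m, ← mul_assoc, pow_mul, pow_mul, h1, one_pow]
  · interval_cases m
    · exact ⟨y0, rfl, pow_zero _⟩
    · refine ⟨1, ?_, one_pow _⟩
      rw [pow_one] at h
      rw [h]
      rfl

/-- if `g` centralises `y` modulo the solvable normal subgroup `N` and the order of `y` is prime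
to `|N|`, then some element of the coset `gN` centralises `y` -/
theorem exists_comm_lift {G : Type u} [Group G] [Finite G] (N : Subgroup G) [N.Normal]
    (hN : Group.IsSolvable N) (y g : G)
    (hcop : (orderOf y).Coprime (Nat.card N)) (h : g⁻¹ * y * g * y⁻¹ ∈ N) :
    ∃ k ∈ N, (g * k) * y = y * (g * k) := by
  obtain ⟨w, hw⟩ : ∃ w, w = g⁻¹ * y * g := ⟨_, rfl⟩
  have hord : orderOf w = orderOf y := by
    have := orderOf_injective (MulAut.conj g⁻¹).toMonoidHom (MulAut.conj g⁻¹).injective y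
    rw [hw]
    simpa using this
  have hB : Subgroup.zpowers w ≤ N ⊔ Subgroup.zpowers y := by
    rw [Subgroup.zpowers_le]
    have : w = (g⁻¹ * y * g * y⁻¹) * y := by rw [hw]; group
    rw [this]
    exact Subgroup.mul_mem_sup h (Subgroup.mem_zpowers y)
  obtain ⟨k, hkN, hk⟩ := Cfsg.Agent.Lib.Helper1.sz_conj_rel (Subgroup.zpowers y) N
    (by rw [Subgroup.normalizer_eq_top]; exact le_top)
    (by rw [Nat.card_zpowers]; exact hcop) (Or.inr hN) (Subgroup.zpowers w) hB
    (by rw [Nat.card_zpowers, Nat.card_zpowers, hord])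
  have h1 : k * y * k⁻¹ ∈ Subgroup.zpowers w := by
    rw [← hk]
    have := Subgroup.smul_mem_pointwise_smul y (MulAut.conj k) (Subgroup.zpowers y)
      (Subgroup.mem_zpowers y)
    simpa [MulAut.smul_def] using this
  have h2 : k * y * k⁻¹ * w⁻¹ ∈ N := by
    have e : k * y * k⁻¹ * w⁻¹ = k * (y * k⁻¹ * y⁻¹) * (g⁻¹ * y * g * y⁻¹)⁻¹ := by
      rw [hw]; group
    rw [e]
    exact N.mul_mem (N.mul_mem hkN (Subgroup.Normal.conj_mem inferInstance _ (N.inv_mem hkN) y))
      (N.inv_mem h)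
  have h3 : k * y * k⁻¹ * w⁻¹ ∈ Subgroup.zpowers w :=
    Subgroup.mul_mem _ h1 (Subgroup.inv_mem _ (Subgroup.mem_zpowers w))
  have hdisj : N ⊓ Subgroup.zpowers w = ⊥ :=
    (Subgroup.disjoint_of_coprime_natCard (by rw [Nat.card_zpowers, hord]; exact hcop.symm)).eq_bot
  have h4 : k * y * k⁻¹ * w⁻¹ = 1 := by
    have : k * y * k⁻¹ * w⁻¹ ∈ N ⊓ Subgroup.zpowers w := ⟨h2, h3⟩
    rw [hdisj] at this
    exact Subgroup.mem_bot.mp this
  refine ⟨k, hkN, ?_⟩
  have h5 : k * y * k⁻¹ = g⁻¹ * y * g := by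
    rw [← hw]
    exact mul_inv_eq_one.mp h4
  calc g * k * y = g * (k * y * k⁻¹) * k := by group
    _ = g * (g⁻¹ * y * g) * k := by rw [h5]
    _ = y * (g * k) := by group

/-- a normal nontrivial subgroup of a nilpotent group meets the centre -/
theorem normal_inf_center_ne_bot' {G : Type*} [Group G] [Group.IsNilpotent G]
    (N : Subgroup G) [N.Normal] (hN : N ≠ ⊥) : N ⊓ Subgroup.center G ≠ ⊥ := by
  classical
  obtain ⟨n, hn⟩ := Group.IsNilpotent.nilpotent G
  have hex : ∃ i, N ⊓ Subgroup.upperCentralSeries G i ≠ ⊥ := ⟨n, by rw [hn, inf_top_eq]; exact hN⟩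
  let i := Nat.find hex
  have hi : N ⊓ Subgroup.upperCentralSeries G i ≠ ⊥ := Nat.find_spec hex
  have hi0 : i ≠ 0 := by
    intro h0
    apply hi
    rw [h0, Subgroup.upperCentralSeries_zero, inf_bot_eq]
  obtain ⟨j, hj⟩ := Nat.exists_eq_succ_of_ne_zero hi0
  have hjlt : j < i := by omega
  have hjbot : N ⊓ Subgroup.upperCentralSeries G j = ⊥ := by
    by_contra h
    exact Nat.find_min hex hjlt h
  intro hbot
  apply hi
  rw [eq_bot_iff, ← hbot]
  intro x hx
  obtain ⟨hxN, hxZ⟩ := Subgroup.mem_inf.mp hx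
  refine Subgroup.mem_inf.mpr ⟨hxN, ?_⟩
  rw [hj] at hxZ
  rw [Subgroup.mem_center_iff]
  intro g
  have h1 : ⁅x, g⁆ ∈ Subgroup.upperCentralSeries G j :=
    Subgroup.mem_upperCentralSeries_succ_iff.mp hxZ g
  have h2 : ⁅x, g⁆ ∈ N := by
    rw [commutatorElement_def]
    have : g * x⁻¹ * g⁻¹ ∈ N := Subgroup.Normal.conj_mem inferInstance _ (N.inv_mem hxN) g
    have e : x * g * x⁻¹ * g⁻¹ = x * (g * x⁻¹ * g⁻¹) := by group
    rw [e]
    exact N.mul_mem hxN this
  have h3 : ⁅x, g⁆ ∈ N ⊓ Subgroup.upperCentralSeries G j := ⟨h2, h1⟩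
  rw [hjbot] at h3
  have h4 : ⁅x, g⁆ = 1 := Subgroup.mem_bot.mp h3
  rw [commutatorElement_def] at h4
  have h5 : x * g = g * x := by
    have : x * g * x⁻¹ * g⁻¹ * (g * x) = g * x := by rw [h4, one_mul]
    rw [← this]; group
  exact h5.symm

/-- one-sided conjugation stability gives membership of the normaliser in a finite group -/
theorem mem_normalizer_of_conj {G : Type*} [Group G] [Finite G] (Z : Subgroup G) (u : G)
    (h : ∀ z ∈ Z, u * z * u⁻¹ ∈ Z) : u ∈ Subgroup.normalizer (Z : Set G) := by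
  have hpow : ∀ n : ℕ, ∀ z ∈ Z, u ^ n * z * (u ^ n)⁻¹ ∈ Z := by
    intro n
    induction n with
    | zero => intro z hz; simpa using hz
    | succ n ih =>
      intro z hz
      have := h _ (ih z hz)
      have e : u ^ (n + 1) * z * (u ^ (n + 1))⁻¹ = u * (u ^ n * z * (u ^ n)⁻¹) * u⁻¹ := by
        rw [pow_succ']; group
      rw [e]; exact this
  have hinv : ∀ z ∈ Z, u⁻¹ * z * u ∈ Z := by
    intro z hz
    have hu : u ^ (orderOf u - 1) = u⁻¹ := by
      have h1 : u ^ (orderOf u - 1) * u = 1 := by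
        rw [← pow_succ, Nat.sub_add_cancel (orderOf_pos u), pow_orderOf_eq_one]
      exact eq_inv_of_mul_eq_one_left h1
    have := hpow (orderOf u - 1) z hz
    rw [hu, inv_inv] at this
    exact this
  rw [Subgroup.mem_normalizer_iff]
  intro z
  constructor
  · exact h z
  · intro hz
    have := hinv _ hz
    have e : u⁻¹ * (u * z * u⁻¹) * u = z := by group
    rwa [e] at this

/-- a `p`-element normalising a nontrivial `p`-subgroup centralises a nonidentity element of it -/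
theorem exists_fixed_of_pgroup {G : Type*} [Group G] [Finite G] (p : ℕ) [Fact p.Prime]
    (Z : Subgroup G) (hZ : IsPGroup p Z) (hZ1 : Z ≠ ⊥)
    (u : G) (hu : ∃ k : ℕ, u ^ p ^ k = 1) (hnorm : ∀ z ∈ Z, u * z * u⁻¹ ∈ Z) :
    ∃ z ∈ Z, z ≠ 1 ∧ u * z = z * u := by
  have hpu : IsPGroup p (Subgroup.zpowers u) := isPGroup_zpowers_of_pow Fact.out u hu
  have hun : Subgroup.zpowers u ≤ Subgroup.normalizer (Z : Set G) := by
    rw [Subgroup.zpowers_le]
    exact mem_normalizer_of_conj Z u hnorm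
  obtain ⟨T, hT⟩ : ∃ T : Subgroup G, T = Z ⊔ Subgroup.zpowers u := ⟨_, rfl⟩
  have hTp : IsPGroup p T := by
    rw [hT]; exact IsPGroup.to_sup_of_normal_left' hZ hpu hun
  haveI : Group.IsNilpotent T := hTp.isNilpotent
  have hZT : Z ≤ T := by rw [hT]; exact le_sup_left
  have huT : u ∈ T := by rw [hT]; exact Subgroup.mem_sup_right (Subgroup.mem_zpowers u)
  haveI : (Z.subgroupOf T).Normal :=
    (Subgroup.normal_subgroupOf_iff_le_normalizer hZT).mpr
      (by rw [hT]; exact sup_le Subgroup.le_normalizer hun)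
  have hne : Z.subgroupOf T ≠ ⊥ := by
    intro h
    apply hZ1
    rw [Subgroup.subgroupOf_eq_bot] at h
    have := disjoint_iff.mp h
    rwa [inf_eq_left.mpr hZT] at this
  have hcen := normal_inf_center_ne_bot' (Z.subgroupOf T) hne
  obtain ⟨t, ht, ht1⟩ : ∃ t ∈ Z.subgroupOf T ⊓ Subgroup.center T, t ≠ 1 := by
    by_contra hcon
    exact hcen ((Subgroup.eq_bot_iff_forall _).mpr
      (fun t ht => by_contra (fun h1 => hcon ⟨t, ht, h1⟩)))
  refine ⟨(t : G), Subgroup.mem_subgroupOf.mp ht.1, fun h => ht1 (Subtype.ext h), ?_⟩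
  have := (Subgroup.mem_center_iff.mp ht.2) ⟨u, huT⟩
  exact congrArg Subtype.val this

end Cfsg.Agent.Lib.Helper12
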