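import Mathlib

set_option autoImplicit false

namespace Cfsg.Agent.Lib.Helper12

/-- two homs on a join agreeing on both factors are equal -/
theorem hom_ext_sup {G : Type*} [Group G] (W₁ W₂ : Subgroup G) (χ χ' : ↥(W₁ ⊔ W₂) →* ℂˣ)
    (h1 : ∀ w : ↥(W₁ ⊔ W₂), (w : G) ∈ W₁ → χ w = χ' w)
    (h2 : ∀ w : ↥(W₁ ⊔ W₂), (w : G) ∈ W₂ → χ w = χ' w) : χ = χ' := by
  let K : Subgroup G := (MonoidHom.eqLocus χ χ').map (W₁ ⊔ W₂).subtype
  have hK : W₁ ⊔ W₂ ≤ K := by
    apply sup_le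
    · intro a ha
      exact ⟨⟨a, (le_sup_left : W₁ ≤ W₁ ⊔ W₂) ha⟩, h1 _ ha, rfl⟩
    · intro a ha
      exact ⟨⟨a, (le_sup_right : W₂ ≤ W₁ ⊔ W₂) ha⟩, h2 _ ha, rfl⟩
  ext w
  obtain ⟨w', hw', hww⟩ := hK w.2
  have : w' = w := Subtype.ext hww
  subst this
  exact congrArg Units.val hw'

/-- a nontrivial linear character sums to zero -/
theorem sum_units_hom {W : Type*} [Group W] [Fintype W] (χ : W →* ℂˣ) (hχ : χ ≠ 1) :
    ∑ w : W, ((χ w : ℂˣ) : ℂ) = 0 := by
  have := sum_hom_units_eq_zero ((Units.coeHom ℂ).comp χ) (by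
    intro h; apply hχ; ext w
    have := DFunLike.congr_fun h w
    simpa using this)
  simpa using this

/-- in a finite abelian group, linear characters trivial on a subgroup separate the elements
outside it from the identity -/
theorem exists_hom_trivial_on {A : Type*} [Group A] [Finite A] (hcomm : ∀ a b : A, a * b = b * a)
    (U : Subgroup A) {y : A} (hy : y ∉ U) :
    ∃ φ : A →* ℂˣ, (∀ u ∈ U, φ u = 1) ∧ φ y ≠ 1 := by
  letI : CommGroup A := { (inferInstance : Group A) with mul_comm := hcomm }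
  have hne : (QuotientGroup.mk' U y) ≠ 1 := by
    intro h; apply hy
    rwa [QuotientGroup.mk'_apply, QuotientGroup.eq_one_iff] at h
  haveI : NeZero ((Monoid.exponent (A ⧸ U) : ℕ) : ℂ) :=
    ⟨by exact_mod_cast Monoid.exponent_ne_zero_of_finite⟩
  obtain ⟨χ, hχ⟩ := CommGroup.exists_apply_ne_one_of_hasEnoughRootsOfUnity (A ⧸ U) ℂ hne
  refine ⟨χ.comp (QuotientGroup.mk' U), ?_, hχ⟩
  intro u hu
  simp [(QuotientGroup.eq_one_iff u).2 hu]

/-- the sum over a group of linear characters of the values at `y` vanishes as soon as one of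
them is nontrivial at `y` -/
theorem dual_sum_eq_zero {A : Type*} [Group A] (Φ : Subgroup (A →* ℂˣ)) [Fintype Φ] (y : A)
    (h : ∃ φ₀ ∈ Φ, φ₀ y ≠ 1) : ∑ φ : Φ, (((φ : A →* ℂˣ) y : ℂˣ) : ℂ) = 0 := by
  obtain ⟨φ₀, hφ₀, hne⟩ := h
  have := sum_hom_units_eq_zero ((Units.coeHom ℂ).comp ((MonoidHom.eval y).comp Φ.subtype)) (by
    intro h
    apply hne
    have := DFunLike.congr_fun h ⟨φ₀, hφ₀⟩
    simpa using this)
  simpa using this

end Cfsg.Agent.Lib.Helper12
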