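import Mathlib
import Cfsg.Prelude.Def_Characters
import Cfsg.Agent.Lib.Helper2.CharRational
import Cfsg.Agent.Lib.Helper2.CharDecomp

set_option autoImplicit false

namespace Cfsg.Agent.Lib.Helper12

open Cfsg.Agent.Lib.Helper2

/-- every automorphism of a subfield of an algebraically closed field extends to the whole field -/
theorem exists_ringEquiv_extending {K L : Type*} [Field K] [Field L] [IsAlgClosed L]
    (emb : K →+* L) (σ : K ≃+* K) :
    ∃ τ : L ≃+* L, ∀ x : K, τ (emb x) = emb (σ x) := by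
  let _ : Algebra K L := emb.toAlgebra
  obtain ⟨s, hs⟩ := exists_isTranscendenceBasis K L
  let _ := IsAlgClosed.isAlgClosure_of_transcendence_basis ((↑) : s → L) hs
  let a : MvPolynomial s K ≃ₐ[K] Algebra.adjoin K (Set.range ((↑) : s → L)) := hs.1.aevalEquiv
  let e : Algebra.adjoin K (Set.range ((↑) : s → L)) ≃+*
      Algebra.adjoin K (Set.range ((↑) : s → L)) :=
    a.symm.toRingEquiv.trans ((MvPolynomial.mapEquiv s σ).trans a.toRingEquiv)
  refine ⟨IsAlgClosure.equivOfEquiv L L e, fun x => ?_⟩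
  have h1 : ∀ y : K, emb y = algebraMap (Algebra.adjoin K (Set.range ((↑) : s → L))) L
      (algebraMap K _ y) := fun y => rfl
  rw [h1, IsAlgClosure.equivOfEquiv_algebraMap, h1]
  congr 1
  have h2 : a.symm (algebraMap K _ x) = MvPolynomial.C x := by
    rw [AlgEquiv.commutes]
    rfl
  simp only [e, RingEquiv.trans_apply, AlgEquiv.coe_ringEquiv, h2,
    MvPolynomial.mapEquiv_apply, MvPolynomial.map_C]
  rw [← MvPolynomial.algebraMap_eq, AlgEquiv.commutes]
  rfl

theorem trace_toLin'_eq {n : ℕ} (M : Matrix (Fin n) (Fin n) ℂ) :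
    LinearMap.trace ℂ (Fin n → ℂ) (Matrix.toLin' M) = M.trace := by
  rw [LinearMap.trace_eq_matrix_trace ℂ (Pi.basisFun ℂ (Fin n)), LinearMap.toMatrix_eq_toMatrix',
    LinearMap.toMatrix'_toLin']

/-- applying a ring endomorphism of the complex numbers to a character gives a character -/
theorem isCharacter_comp_ringHom {G : Type*} [Group G] {χ : G → ℂ} (hχ : Cfsg.IsCharacter G χ)
    (τ : ℂ →+* ℂ) : Cfsg.IsCharacter G (τ ∘ χ) := by
  obtain ⟨n, ρ, rfl⟩ := hχ
  let M : G → Matrix (Fin n) (Fin n) ℂ := fun g => (LinearMap.toMatrix' (ρ g)).map τ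
  have hM1 : M 1 = 1 := by
    simp only [M, map_one, LinearMap.toMatrix'_one]
    exact Matrix.map_one _ (map_zero τ) (map_one τ)
  have hMmul : ∀ g h, M (g * h) = M g * M h := by
    intro g h
    simp only [M, map_mul, LinearMap.toMatrix'_mul]
    exact Matrix.map_mul
  let ρ' : Representation ℂ G (Fin n → ℂ) :=
    { toFun := fun g => Matrix.toLin' (M g)
      map_one' := by rw [hM1, Matrix.toLin'_one]; rfl
      map_mul' := fun g h => by rw [hMmul, Matrix.toLin'_mul]; rfl }
  refine ⟨n, ρ', ?_⟩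
  funext g
  unfold Representation.character
  change LinearMap.trace ℂ _ (Matrix.toLin' (M g)) = τ (LinearMap.trace ℂ _ (ρ g))
  rw [trace_toLin'_eq, LinearMap.trace_eq_matrix_trace ℂ (Pi.basisFun ℂ (Fin n)) (ρ g),
    LinearMap.toMatrix_eq_toMatrix']
  simp only [M, Matrix.trace, map_sum]
  rfl

/-- for `m` coprime to the group order there is a field automorphism `τ` of the complex numbers
with `τ (χ g) = χ (g ^ m)` for all characters `χ` -/
theorem exists_galois_twist (G : Type*) [Group G] [Finite G] (m : ℕ)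
    (hm : m.Coprime (Nat.card G)) :
    ∃ τ : ℂ ≃+* ℂ, ∀ χ : G → ℂ, Cfsg.IsCharacter G χ → ∀ g : G, τ (χ g) = χ (g ^ m) := by
  have : NeZero (Nat.card G) := ⟨Nat.card_pos.ne'⟩
  obtain ⟨σ, hσ⟩ := exists_aut_pow (Nat.card G) m hm
  obtain ⟨τ, hτ⟩ := exists_ringEquiv_extending (cycEmb (Nat.card G)).toRingHom σ.toRingEquiv
  refine ⟨τ, ?_⟩
  rintro _ ⟨d, ρ, rfl⟩ g
  obtain ⟨x, hx1, hx2⟩ := char_lift_self (Nat.card G) ρ g (orderOf_dvd_natCard g)
  rw [← hx1]
  exact (hτ x).trans (hx2 σ m hσ)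

/-- for `m` coprime to the group order, `g ↦ χ (g ^ m)` is a character, irreducible if `χ` is -/
theorem isCharacter_pow_coprime {G : Type*} [Group G] [Finite G] (m : ℕ)
    (hm : m.Coprime (Nat.card G)) {χ : G → ℂ} (hχ : Cfsg.IsCharacter G χ) :
    Cfsg.IsCharacter G (fun g => χ (g ^ m)) := by
  obtain ⟨τ, hτ⟩ := exists_galois_twist G m hm
  have h := isCharacter_comp_ringHom hχ τ.toRingHom
  have e : (τ.toRingHom ∘ χ) = fun g => χ (g ^ m) := by
    funext g
    exact hτ χ hχ g
  rwa [e] at h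

theorem isIrrCharacter_pow_coprime {G : Type*} [Group G] [Finite G] (m : ℕ)
    (hm : m.Coprime (Nat.card G)) {χ : G → ℂ} (hχ : Cfsg.IsIrrCharacter G χ) :
    Cfsg.IsIrrCharacter G (fun g => χ (g ^ m)) := by
  classical
  have := Fintype.ofFinite G
  apply isIrrCharacter_of_norm_one (isCharacter_pow_coprime m hm (isCharacter_of_isIrrCharacter hχ))
  rw [← classInner_irr_self hχ, classInner_def, classInner_def]
  congr 1
  exact Fintype.sum_bijective _ (powCoprime hm.symm).bijective _ _ (fun g => rfl)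

end Cfsg.Agent.Lib.Helper12
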