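import Mathlib
import Cfsg.Agent.Lib.Helper1.PQ
import Cfsg.Agent.Lib.Helper2.ZJe
import Cfsg.Agent.Lib.Helper12.Rk2Aut

/-!
Helper lemmas (helper12): elements of order prime to `p` of the derived subgroup centralize a
normal `p`-subgroup `P` (`p` odd) having a normal subgroup `T` of index `p` and an element `x`
whose centralizer in `T` has at most `p` elements of order dividing `p`.
-/

set_option autoImplicit false
set_option linter.style.haveILetI false

namespace Cfsg.Agent.Lib.Helper12.NarrowAut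

open scoped commutatorElement

universe u

variable {G : Type u} [Group G]

/-- if `⁅y, g⁆` commutes with `g` and is a `p`-element, while `g` has order prime to `p`, then
`g` and `y` commute -/
theorem comm_of_comm_mem [Finite G] (p : ℕ) (g y : G) (hg : (orderOf g).Coprime p)
    (hc : ⁅y, g⁆ * g = g * ⁅y, g⁆) (k : ℕ) (hk : ⁅y, g⁆ ^ p ^ k = 1) : g * y = y * g := by
  have e1 : y * g * y⁻¹ = ⁅y, g⁆ * g := by rw [commutatorElement_def]; group
  have e2 : (y * g * y⁻¹) ^ orderOf g = 1 := by
    rw [conj_pow, pow_orderOf_eq_one]; group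
  rw [e1, (show Commute ⁅y, g⁆ g from hc).mul_pow, pow_orderOf_eq_one, mul_one] at e2
  have d1 : orderOf ⁅y, g⁆ ∣ orderOf g := orderOf_dvd_of_pow_eq_one e2
  have d2 : orderOf ⁅y, g⁆ ∣ p ^ k := orderOf_dvd_of_pow_eq_one hk
  have h1 : ⁅y, g⁆ = 1 :=
    orderOf_eq_one_iff.mp (Nat.eq_one_of_dvd_coprimes (Nat.Coprime.pow_right k hg) d1 d2)
  rw [h1, one_mul] at e1
  calc g * y = (y * g * y⁻¹) * y := by rw [e1]
    _ = y * g := by group

/-- commutators act trivially on a normal cyclic subgroup -/
theorem comm_cyclic {Γ : Type*} [Group Γ] (N : Subgroup Γ) [N.Normal] (hN : IsCyclic ↥N)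
    (a b n : Γ) (hn : n ∈ N) : ⁅a, b⁆ * n = n * ⁅a, b⁆ := by
  have h1 : (MulAut.conjNormal ⁅a, b⁆ : MulAut ↥N) = 1 := by
    rw [map_commutatorElement, commutatorElement_eq_one_iff_commute]
    exact Rk2Aut.mulAut_comm_of_cyclic _ _
  have h2 := congrArg (fun f : MulAut ↥N => ((f ⟨n, hn⟩ : ↥N) : Γ)) h1
  have h3 : ⁅a, b⁆ * n * ⁅a, b⁆⁻¹ = n := h2
  calc ⁅a, b⁆ * n = (⁅a, b⁆ * n * ⁅a, b⁆⁻¹) * ⁅a, b⁆ := by group
    _ = n * ⁅a, b⁆ := by rw [h3]

/-- the image of the derived subgroup under a homomorphism acts trivially on a normal cyclic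
subgroup -/
theorem comm_cyclic_map {Γ : Type*} [Group Γ] (f : G →* Γ) (N : Subgroup Γ) [N.Normal]
    (hN : IsCyclic ↥N) (g : G) (hg : g ∈ commutator G) (n : Γ) (hn : n ∈ N) :
    f g * n = n * f g := by
  have h1 : commutator G ≤ (Subgroup.centralizer (N : Set Γ)).comap f := by
    rw [commutator_def, Subgroup.commutator_le]
    intro a _ b _
    rw [Subgroup.mem_comap, map_commutatorElement, Subgroup.mem_centralizer_iff]
    intro n hn
    exact (comm_cyclic N hN (f a) (f b) n hn).symm
  have h2 := h1 hg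
  rw [Subgroup.mem_comap, Subgroup.mem_centralizer_iff] at h2
  exact (h2 n hn).symm

/-- the power identity in class two -/
theorem mul_pow_class_two (a b k : G) (hba : b * a = a * b * k) (hka : k * a = a * k)
    (hkb : k * b = b * k) (n : ℕ) :
    (a * b) ^ n = a ^ n * b ^ n * k ^ (∑ i ∈ Finset.range n, i) := by
  have h1 : ∀ m : ℕ, b ^ m * a = a * b ^ m * k ^ m := by
    intro m
    induction m with
    | zero => simp
    | succ m ih =>
      have hkbm : k ^ m * b = b * k ^ m := ((show Commute k b from hkb).pow_left m).eq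
      calc b ^ (m + 1) * a = b * (b ^ m * a) := by rw [pow_succ']; group
        _ = b * (a * b ^ m * k ^ m) := by rw [ih]
        _ = (b * a) * b ^ m * k ^ m := by group
        _ = a * b * k * b ^ m * k ^ m := by rw [hba]
        _ = a * b * (k * b ^ m) * k ^ m := by group
        _ = a * b * (b ^ m * k) * k ^ m := by
            rw [((show Commute k b from hkb).pow_right m).eq]
        _ = a * b ^ (m + 1) * k ^ (m + 1) := by rw [pow_succ', pow_succ']; group
  induction n with
  | zero => simp
  | succ n ih =>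
    have hkab : k ^ (∑ i ∈ Finset.range n, i) * (a * b) = (a * b) * k ^ (∑ i ∈ Finset.range n, i) :=
      (((show Commute k a from hka).mul_right (show Commute k b from hkb)).pow_left _).eq
    have hkb' : k ^ n * b = b * k ^ n := ((show Commute k b from hkb).pow_left n).eq
    calc (a * b) ^ (n + 1) = (a * b) ^ n * (a * b) := pow_succ _ _
      _ = a ^ n * b ^ n * k ^ (∑ i ∈ Finset.range n, i) * (a * b) := by rw [ih]
      _ = a ^ n * b ^ n * ((a * b) * k ^ (∑ i ∈ Finset.range n, i)) := by rw [← hkab]; group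
      _ = a ^ n * (b ^ n * a) * b * k ^ (∑ i ∈ Finset.range n, i) := by group
      _ = a ^ n * (a * b ^ n * k ^ n) * b * k ^ (∑ i ∈ Finset.range n, i) := by rw [h1 n]
      _ = a ^ n * a * b ^ n * (k ^ n * b) * k ^ (∑ i ∈ Finset.range n, i) := by group
      _ = a ^ n * a * b ^ n * (b * k ^ n) * k ^ (∑ i ∈ Finset.range n, i) := by rw [hkb']
      _ = a ^ (n + 1) * b ^ (n + 1) * k ^ (∑ i ∈ Finset.range (n + 1), i) := by
          rw [Finset.sum_range_succ, pow_succ, pow_succ, pow_add]
          have : k ^ (∑ i ∈ Finset.range n, i) * k ^ n = k ^ n * k ^ (∑ i ∈ Finset.range n, i) := by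
            rw [← pow_add, ← pow_add, add_comm]
          rw [this]; group

/-- the `p`-th power of a product in class two, `p` odd -/
theorem mul_pow_prime_class_two (p : ℕ) (hp : Odd p) (a b k : G) (hba : b * a = a * b * k)
    (hka : k * a = a * k) (hkb : k * b = b * k) (hk : k ^ p = 1) :
    (a * b) ^ p = a ^ p * b ^ p := by
  rw [mul_pow_class_two a b k hba hka hkb p]
  obtain ⟨m, hm⟩ := hp
  have h1 : (∑ i ∈ Finset.range p, i) = p * m := by
    have := Finset.sum_range_id_mul_two p
    have h2 : p - 1 = 2 * m := by omega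
    rw [h2] at this
    have h3 : (∑ i ∈ Finset.range p, i) * 2 = (p * m) * 2 := by rw [this]; ring
    exact Nat.eq_of_mul_eq_mul_right (by norm_num) h3
  rw [h1, pow_mul, hk, one_pow, mul_one]

/-- counting by fibres -/
theorem card_le_of_fibers {α β : Type*} [Finite α] [Finite β] (f : α → β) (n : ℕ)
    (h : ∀ a : α, Nat.card {a' : α // f a' = f a} ≤ n) : Nat.card α ≤ n * Nat.card β := by
  classical
  haveI := Fintype.ofFinite α
  haveI := Fintype.ofFinite β
  have h1 := Finset.card_le_mul_card_image (f := f) (Finset.univ : Finset α) n (by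
    intro b hb
    obtain ⟨a, -, rfl⟩ := Finset.mem_image.mp hb
    have := h a
    rw [Nat.card_eq_fintype_card, Fintype.card_subtype] at this
    exact this)
  rw [Finset.card_univ] at h1
  rw [Nat.card_eq_fintype_card, Nat.card_eq_fintype_card]
  exact h1.trans (Nat.mul_le_mul_left n (Finset.card_le_univ _))

/-- `Nat.card K * K.relIndex L = Nat.card L` -/
theorem card_mul_relIndex' {K L : Subgroup G} (h : K ≤ L) :
    Nat.card K * K.relIndex L = Nat.card L := by
  have := Subgroup.relIndex_mul_relIndex (⊥ : Subgroup G) K L bot_le h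
  rwa [Subgroup.relIndex_bot_left, Subgroup.relIndex_bot_left] at this

set_option maxHeartbeats 1600000 in
/-- main induction -/
theorem narrow_aux [Finite G] (p : ℕ) [Fact p.Prime] (hp2 : p ≠ 2)
    (P T : Subgroup G) [hPn : P.Normal] [hTn : T.Normal] (hP : IsPGroup p P)
    (hidx : T.relIndex P = p) (x : G) (hx : x ∈ P) (Z : Subgroup G) (hZ : Nat.card Z ≤ p)
    (hgood : ∀ y ∈ T, y ^ p = 1 → y * x = x * y → y ∈ Z)
    (g : G) (hg : g ∈ commutator G) (hgp : (orderOf g).Coprime p) :
    ∀ (n : ℕ) (Y : Subgroup G), Y.Normal → Y ≤ P → Nat.card Y ≤ n →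
      ∀ y ∈ Y, g * y = y * g := by
  have hpp : p.Prime := Fact.out
  have hodd : Odd p := hpp.odd_of_ne_two hp2
  intro n
  induction n with
  | zero =>
    intro Y _ _ hc
    have := Nat.card_pos (α := ↥Y)
    omega
  | succ n ih =>
    intro Y hYn hYP hc
    obtain ⟨Y₀, hY₀⟩ : ∃ Y₀ : Subgroup G, Y₀ = sSup {M : Subgroup G | M.Normal ∧ M < Y} :=
      ⟨_, rfl⟩
    have hY₀n : Y₀.Normal := by
      rw [hY₀]
      exact Subgroup.sSup_normal _ (fun M hM => hM.1)
    have hY₀le : Y₀ ≤ Y := by
      rw [hY₀]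
      exact sSup_le (fun M hM => hM.2.le)
    have hY₀g : ∀ y ∈ Y₀, g * y = y * g := by
      have h1 : Y₀ ≤ Subgroup.centralizer {g} := by
        rw [hY₀]
        apply sSup_le
        intro M hM y hy
        rw [Subgroup.mem_centralizer_iff]
        intro h hh
        rw [Set.mem_singleton_iff] at hh
        rw [hh]
        exact ih M hM.1 (hM.2.le.trans hYP)
          (by have := Cfsg.Agent.Lib.Helper6.card_lt_card_of_lt_sub hM.2; omega) y hy
      intro y hy
      have h2 := h1 hy
      rw [Subgroup.mem_centralizer_iff] at h2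
      exact h2 g rfl
    have hmax : ∀ M : Subgroup G, M.Normal → M ≤ Y → M ≠ Y → M ≤ Y₀ := by
      intro M hMn hMY hne
      rw [hY₀]
      exact le_sSup ⟨hMn, lt_of_le_of_ne hMY hne⟩
    by_cases hYY₀ : Y₀ = Y
    · intro y hy
      exact hY₀g y (hYY₀ ▸ hy)
    have hpel : ∀ y ∈ P, ∃ k : ℕ, y ^ p ^ k = 1 := by
      intro y hy
      obtain ⟨k, hk⟩ := hP ⟨y, hy⟩
      exact ⟨k, congrArg Subtype.val hk⟩
    suffices hsuff : ∀ y ∈ Y, ⁅y, g⁆ ∈ Y₀ by
      intro y hy
      have h1 := hsuff y hy
      obtain ⟨k, hk⟩ := hpel _ (hYP (hY₀le h1))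
      exact comm_of_comm_mem p g y hgp (hY₀g _ h1).symm k hk
    obtain ⟨N, hN⟩ : ∃ N : Subgroup G, N = Subgroup.normalClosure {g} := ⟨_, rfl⟩
    have hNn : N.Normal := hN ▸ Subgroup.normalClosure_normal
    have hgN : g ∈ N := hN ▸ Subgroup.subset_normalClosure (Set.mem_singleton g)
    have hNc : N ≤ Subgroup.centralizer (Y₀ : Set G) := by
      rw [hN]
      apply Subgroup.normalClosure_le_normal
      rintro _ rfl
      rw [SetLike.mem_coe, Subgroup.mem_centralizer_iff]
      intro y hy
      exact (hY₀g y hy).symm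
    have hY₁n : (⁅Y, N⁆ : Subgroup G).Normal := Subgroup.commutator_normal Y N
    have hY₁le : ⁅Y, N⁆ ≤ Y := Subgroup.commutator_le_left Y N
    by_cases hA : ⁅Y, N⁆ ≤ Y₀
    · intro y hy
      exact hA (Subgroup.commutator_mem_commutator hy hgN)
    have hY₁ : ⁅Y, N⁆ = Y := by
      by_contra hne
      exact hA (hmax _ hY₁n hY₁le hne)
    have hYc : Y ≤ Subgroup.centralizer (Y₀ : Set G) := by
      have h3 : ⁅⁅Y, N⁆, Y₀⁆ = ⊥ := by
        apply Subgroup.commutator_commutator_eq_bot_of_rotate
        · rw [Subgroup.commutator_eq_bot_iff_le_centralizer.mpr hNc, Subgroup.commutator_bot_left]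
        · rw [eq_bot_iff]
          calc ⁅⁅Y₀, Y⁆, N⁆ ≤ ⁅Y₀, N⁆ :=
                Subgroup.commutator_mono (Subgroup.commutator_le_left Y₀ Y) le_rfl
            _ = ⊥ := by
                rw [Subgroup.commutator_comm,
                  Subgroup.commutator_eq_bot_iff_le_centralizer.mpr hNc]
      rw [hY₁] at h3
      exact Subgroup.commutator_eq_bot_iff_le_centralizer.mp h3
    -- the index bound
    have hcard : Nat.card Y ≤ p * Nat.card Y₀ := by
      by_cases hYT : Y ≤ T
      · have hYne : Y ≠ ⊥ := by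
          rintro rfl
          exact hYY₀ (le_antisymm hY₀le bot_le)
        have hYp : IsPGroup p Y := hP.to_le hYP
        obtain ⟨Φ, hΦ⟩ : ∃ Φ, Φ = (frattini ↥Y).map Y.subtype := ⟨_, rfl⟩
        have hΦn : Φ.Normal := by
          apply Cfsg.Agent.Lib.Helper2.normal_of_forall_normalizer
          intro g
          rw [hΦ]
          exact Cfsg.Agent.Lib.Helper18.normalizer_le_normalizer_map_frattini Y
            (Cfsg.Agent.Lib.Helper2.mem_normalizer_of_normal Y g)
        have hΦle : Φ ≤ Y := hΦ ▸ Subgroup.map_subtype_le _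
        have hΦne : Φ ≠ Y := by
          intro heq
          have hfr : frattini ↥Y = ⊤ := by
            apply Subgroup.map_injective Y.subtype_injective
            rw [← hΦ, heq, ← MonoidHom.range_eq_map, Subgroup.range_subtype]
          have hnt : Nontrivial ↥Y := by
            obtain ⟨v, hv⟩ := (Subgroup.ne_bot_iff_exists_ne_one).mp hYne
            exact ⟨⟨v, 1, hv⟩⟩
          obtain ⟨M, hM⟩ : ∃ M : Subgroup ↥Y, IsCoatom M := by
            rcases IsCoatomic.eq_top_or_exists_le_coatom (⊥ : Subgroup ↥Y) with h | ⟨M, hM, -⟩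
            · exact absurd h bot_ne_top
            · exact ⟨M, hM⟩
          have h1 := frattini_le_coatom hM
          rw [hfr] at h1
          exact hM.1 (top_le_iff.mp h1)
        have hpow : ∀ y ∈ Y, y ^ p ∈ Y₀ := by
          intro y hy
          apply hmax Φ hΦn hΦle hΦne
          rw [hΦ]
          exact ⟨⟨y, hy⟩ ^ p, Cfsg.Agent.Lib.Helper28.pow_mem_frattini hYp ⟨y, hy⟩, rfl⟩
        have hcomm : ⁅Y, P⁆ ≤ Y₀ :=
          hmax _ (Subgroup.commutator_normal Y P) (Subgroup.commutator_le_left Y P)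
            (Cfsg.Agent.Lib.Helper1.commutator_lt_of_pgroups hYp hP
              (by rw [Subgroup.normalizer_eq_top]; exact le_top) hYne).ne
        have hmul : ∀ a ∈ Y, ∀ b ∈ Y, (a * b) ^ p = a ^ p * b ^ p := by
          intro a ha b hb
          have hk0 : ⁅b, a⁆ ∈ Y₀ := hcomm (Subgroup.commutator_mem_commutator hb (hYP ha))
          have hka : ⁅b, a⁆ * a = a * ⁅b, a⁆ :=
            Subgroup.mem_centralizer_iff.mp (hYc ha) _ hk0
          have hkb : ⁅b, a⁆ * b = b * ⁅b, a⁆ :=
            Subgroup.mem_centralizer_iff.mp (hYc hb) _ hk0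
          have hba : b * a = a * b * ⁅b, a⁆ := by
            calc b * a = ⁅b, a⁆ * a * b := by rw [commutatorElement_def]; group
              _ = a * ⁅b, a⁆ * b := by rw [hka]
              _ = a * (⁅b, a⁆ * b) := by group
              _ = a * (b * ⁅b, a⁆) := by rw [hkb]
              _ = a * b * ⁅b, a⁆ := by group
          have hkp : ⁅b, a⁆ ^ p = 1 := by
            have h1 : a⁻¹ * b * a = b * ⁅b, a⁆ := by rw [mul_assoc, hba]; group
            have h2 : (a⁻¹ * b * a) ^ p = b ^ p := by
              have e : a⁻¹ * b * a = a⁻¹ * b * a⁻¹⁻¹ := by group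
              rw [e, conj_pow]
              have hc := Subgroup.mem_centralizer_iff.mp (hYc ha) _ (hpow b hb)
              rw [inv_inv, mul_assoc, hc]; group
            rw [h1, (show Commute b ⁅b, a⁆ from hkb.symm).mul_pow] at h2
            exact mul_left_cancel (a := b ^ p) (by rw [h2, mul_one])
          exact mul_pow_prime_class_two p hodd a b _ hba hka hkb hkp
        have hexp : ∀ y ∈ Y, y ^ p = 1 := by
          obtain ⟨E, hE⟩ : ∃ E : Subgroup G, ∀ y : G, y ∈ E ↔ (y ∈ Y ∧ y ^ p = 1) :=
            ⟨{ carrier := {y | y ∈ Y ∧ y ^ p = 1}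
               mul_mem' := by
                 rintro a b ⟨ha, ha'⟩ ⟨hb, hb'⟩
                 exact ⟨Y.mul_mem ha hb, by rw [hmul a ha b hb, ha', hb', one_mul]⟩
               one_mem' := ⟨Y.one_mem, one_pow _⟩
               inv_mem' := by
                 rintro a ⟨ha, ha'⟩
                 exact ⟨Y.inv_mem ha, by rw [inv_pow, ha', inv_one]⟩ }, fun y => Iff.rfl⟩
          have hle : ⁅Y, N⁆ ≤ E := by
            rw [Subgroup.commutator_le]
            intro c hc n hn
            rw [hE]
            refine ⟨hY₁le (Subgroup.commutator_mem_commutator hc hn), ?_⟩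
            have e : ⁅c, n⁆ = c * (n * c⁻¹ * n⁻¹) := by rw [commutatorElement_def]; group
            rw [e, hmul c hc _ (hYn.conj_mem _ (Y.inv_mem hc) n), conj_pow, inv_pow]
            have hcn := Subgroup.mem_centralizer_iff.mp (hNc hn) _ (hpow c hc)
            calc c ^ p * (n * (c ^ p)⁻¹ * n⁻¹) = (c ^ p * n) * (c ^ p)⁻¹ * n⁻¹ := by group
              _ = (n * c ^ p) * (c ^ p)⁻¹ * n⁻¹ := by rw [hcn]
              _ = 1 := by group
          intro y hy
          have hy' : y ∈ ⁅Y, N⁆ := by rw [hY₁]; exact hy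
          exact ((hE y).mp (hle hy')).2
        have hf : ∀ y : ↥Y, ⁅(y : G), x⁆ ∈ Y₀ :=
          fun y => hcomm (Subgroup.commutator_mem_commutator y.2 hx)
        have hfib : ∀ y y' : ↥Y, ⁅(y' : G), x⁆ = ⁅(y : G), x⁆ → (y : G)⁻¹ * (y' : G) ∈ Z := by
          intro y y' h
          apply hgood
          · exact hYT (Y.mul_mem (Y.inv_mem y.2) y'.2)
          · exact hexp _ (Y.mul_mem (Y.inv_mem y.2) y'.2)
          · rw [commutatorElement_def, commutatorElement_def] at h
            have h2 : (y' : G) * x * (y' : G)⁻¹ = (y : G) * x * (y : G)⁻¹ := mul_right_cancel h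
            calc (y : G)⁻¹ * y' * x = (y : G)⁻¹ * (y' * x * (y' : G)⁻¹) * y' := by group
              _ = (y : G)⁻¹ * (y * x * (y : G)⁻¹) * y' := by rw [h2]
              _ = x * ((y : G)⁻¹ * y') := by group
        have h1 := card_le_of_fibers (fun y : ↥Y => (⟨⁅(y : G), x⁆, hf y⟩ : ↥Y₀)) p (by
          intro y
          refine le_trans ?_ hZ
          apply Nat.card_le_card_of_injective
            (fun y' : {y' : ↥Y // (⟨⁅(y' : G), x⁆, hf y'⟩ : ↥Y₀) = ⟨⁅(y : G), x⁆, hf y⟩} =>
              (⟨(y : G)⁻¹ * (y'.1 : G), hfib y y'.1 (congrArg Subtype.val y'.2)⟩ : ↥Z))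
          intro a b hab
          have h3 : (y : G)⁻¹ * (a.1 : G) = (y : G)⁻¹ * (b.1 : G) := congrArg Subtype.val hab
          exact Subtype.ext (Subtype.ext (mul_left_cancel h3)))
        exact h1
      · have h1 : Y ⊓ T ≤ Y₀ := hmax _ (Subgroup.normal_inf_normal Y T) inf_le_left
          (fun h => hYT (h ▸ inf_le_right))
        have h2 : (Y ⊓ T).relIndex Y ≤ p := by
          rw [Subgroup.inf_relIndex_left, ← hidx]
          exact Subgroup.relIndex_le_of_le_right hYP (by rw [hidx]; exact hpp.ne_zero)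
        have h3 := card_mul_relIndex' (inf_le_left : Y ⊓ T ≤ Y)
        have h4 : Nat.card ↥(Y ⊓ T) ≤ Nat.card Y₀ :=
          Nat.le_of_dvd Nat.card_pos (Subgroup.card_dvd_of_le h1)
        calc Nat.card Y = Nat.card ↥(Y ⊓ T) * (Y ⊓ T).relIndex Y := h3.symm
          _ ≤ Nat.card Y₀ * p := Nat.mul_le_mul h4 h2
          _ = p * Nat.card Y₀ := mul_comm _ _
    -- the quotient is cyclic
    have hcyc : IsCyclic ↥(Y.map (QuotientGroup.mk' Y₀)) := by
      have hc1 : Nat.card Y₀ * Nat.card ↥(Y.map (QuotientGroup.mk' Y₀)) = Nat.card Y := by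
        have h1 := card_mul_relIndex' hY₀le
        have h2 := Subgroup.relIndex_ker (K := Y) (QuotientGroup.mk' Y₀)
        rw [QuotientGroup.ker_mk'] at h2
        rw [← h2]
        exact h1
      have hc2 : Nat.card ↥(Y.map (QuotientGroup.mk' Y₀)) ≤ p := by
        have hpos : 0 < Nat.card Y₀ := Nat.card_pos
        have : Nat.card Y₀ * Nat.card ↥(Y.map (QuotientGroup.mk' Y₀)) ≤ Nat.card Y₀ * p := by
          rw [hc1, mul_comm]
          exact hcard
        exact Nat.le_of_mul_le_mul_left this hpos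
      have hpg : IsPGroup p ↥(Y.map (QuotientGroup.mk' Y₀)) := (hP.to_le hYP).map _
      obtain ⟨k, hk⟩ := IsPGroup.iff_card.mp hpg
      rcases k with _ | _ | k
      · rw [pow_zero] at hk
        haveI : Subsingleton ↥(Y.map (QuotientGroup.mk' Y₀)) :=
          (Nat.card_eq_one_iff_unique.mp hk).1
        exact isCyclic_of_subsingleton
      · rw [zero_add, pow_one] at hk
        exact isCyclic_of_prime_card hk
      · exfalso
        rw [hk] at hc2
        have h1 : p ^ (k + 1 + 1) = p ^ (k + 1) * p := pow_succ _ _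
        have h2 : 1 < p ^ (k + 1) := Nat.one_lt_pow (by omega) hpp.one_lt
        have h3 : 0 < p := hpp.pos
        nlinarith
    haveI : (Y.map (QuotientGroup.mk' Y₀)).Normal :=
      Subgroup.Normal.map hYn _ (QuotientGroup.mk'_surjective Y₀)
    intro y hy
    have h1 := comm_cyclic_map (QuotientGroup.mk' Y₀) (Y.map (QuotientGroup.mk' Y₀)) hcyc g hg
      _ (Subgroup.mem_map_of_mem _ hy)
    rw [← QuotientGroup.eq_one_iff, commutatorElement_def]
    have h2 : ((y * g * y⁻¹ * g⁻¹ : G) : G ⧸ Y₀) =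
        (QuotientGroup.mk' Y₀ y) * (QuotientGroup.mk' Y₀ g) * (QuotientGroup.mk' Y₀ y)⁻¹ *
          (QuotientGroup.mk' Y₀ g)⁻¹ := rfl
    rw [h2, ← h1]
    group

/-- Elements of order prime to `p` of the derived subgroup centralize a normal `p`-subgroup `P`
(`p` odd) having a normal subgroup `T` of index `p` and an element `x` whose centralizer in `T`
has at most `p` elements of order dividing `p`. -/
theorem narrow_centralizes [Finite G] (p : ℕ) [Fact p.Prime] (hp2 : p ≠ 2)
    (P T : Subgroup G) [hPn : P.Normal] [hTn : T.Normal] (hP : IsPGroup p P)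
    (hidx : T.relIndex P = p) (x : G) (hx : x ∈ P) (Z : Subgroup G) (hZ : Nat.card Z ≤ p)
    (hgood : ∀ y ∈ T, y ^ p = 1 → y * x = x * y → y ∈ Z)
    (g : G) (hg : g ∈ commutator G) (hgp : (orderOf g).Coprime p) :
    ∀ y ∈ P, g * y = y * g :=
  narrow_aux p hp2 P T hP hidx x hx Z hZ hgood g hg hgp (Nat.card P) P hPn le_rfl le_rfl

end Cfsg.Agent.Lib.Helper12.NarrowAut
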