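import Mathlib
import Cfsg.Agent.Lib.Helper12.NarrowAut

/-!
Helper lemmas (helper12): a variant of `NarrowAut` for elements acting trivially on the normal
sections of order `p`; in particular the `(p - 1)`-th powers of elements of order prime to `p`
centralize a narrow normal `p`-subgroup.
-/

set_option autoImplicit false
set_option linter.style.haveILetI false

namespace Cfsg.Agent.Lib.Helper12.NarrowAut2

open scoped commutatorElement
open Cfsg.Agent.Lib.Helper12.NarrowAut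

universe u

variable {G : Type u} [Group G]

/-- commuting modulo a normal subgroup -/
theorem comm_mem_of_quot (Y₀ : Subgroup G) [Y₀.Normal] (y h : G)
    (hc : QuotientGroup.mk' Y₀ h * QuotientGroup.mk' Y₀ y =
      QuotientGroup.mk' Y₀ y * QuotientGroup.mk' Y₀ h) : ⁅y, h⁆ ∈ Y₀ := by
  rw [← QuotientGroup.eq_one_iff, commutatorElement_def]
  have h2 : ((y * h * y⁻¹ * h⁻¹ : G) : G ⧸ Y₀) =
      (QuotientGroup.mk' Y₀ y) * (QuotientGroup.mk' Y₀ h) * (QuotientGroup.mk' Y₀ y)⁻¹ *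
        (QuotientGroup.mk' Y₀ h)⁻¹ := rfl
  rw [h2, ← hc]
  group

/-- a section of order at most `p` of a `p`-group has order `1` or `p` -/
theorem quot_card [Finite G] (p : ℕ) [Fact p.Prime] (Y₀ Y : Subgroup G) [Y₀.Normal]
    (hle : Y₀ ≤ Y) (hYp : IsPGroup p Y) (hcard : Nat.card Y ≤ p * Nat.card Y₀) :
    Nat.card ↥(Y.map (QuotientGroup.mk' Y₀)) = 1 ∨
      Nat.card ↥(Y.map (QuotientGroup.mk' Y₀)) = p := by
  have hpp : p.Prime := Fact.out
  have hc1 : Nat.card Y₀ * Nat.card ↥(Y.map (QuotientGroup.mk' Y₀)) = Nat.card Y := by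
    have h1 := card_mul_relIndex' hle
    have h2 := Subgroup.relIndex_ker (K := Y) (QuotientGroup.mk' Y₀)
    rw [QuotientGroup.ker_mk'] at h2
    rw [← h2]
    exact h1
  have hc2 : Nat.card ↥(Y.map (QuotientGroup.mk' Y₀)) ≤ p := by
    have hpos : 0 < Nat.card Y₀ := Nat.card_pos
    have : Nat.card Y₀ * Nat.card ↥(Y.map (QuotientGroup.mk' Y₀)) ≤ Nat.card Y₀ * p := by
      rw [hc1, mul_comm]
      exact hcard
    exact Nat.le_of_mul_le_mul_left this hpos
  have hpg : IsPGroup p ↥(Y.map (QuotientGroup.mk' Y₀)) := hYp.map _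
  obtain ⟨k, hk⟩ := IsPGroup.iff_card.mp hpg
  rcases k with _ | _ | k
  · left
    rw [hk, pow_zero]
  · right
    rw [hk, zero_add, pow_one]
  · exfalso
    rw [hk] at hc2
    have h1 : p ^ (k + 1 + 1) = p ^ (k + 1) * p := pow_succ _ _
    have h2 : 1 < p ^ (k + 1) := Nat.one_lt_pow (by omega) hpp.one_lt
    have h3 : 0 < p := hpp.pos
    nlinarith

/-- such a section is cyclic -/
theorem quot_cyclic [Finite G] (p : ℕ) [Fact p.Prime] (Y₀ Y : Subgroup G) [Y₀.Normal]
    (hle : Y₀ ≤ Y) (hYp : IsPGroup p Y) (hcard : Nat.card Y ≤ p * Nat.card Y₀) :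
    IsCyclic ↥(Y.map (QuotientGroup.mk' Y₀)) := by
  rcases quot_card p Y₀ Y hle hYp hcard with hk | hk
  · haveI : Subsingleton ↥(Y.map (QuotientGroup.mk' Y₀)) :=
      (Nat.card_eq_one_iff_unique.mp hk).1
    exact isCyclic_of_subsingleton
  · exact isCyclic_of_prime_card hk

/-- elements of the derived subgroup act trivially on normal sections of order `p` -/
theorem hcyc_comm [Finite G] (p : ℕ) [Fact p.Prime] (g : G) (hg : g ∈ commutator G)
    (Y₀ Y : Subgroup G) (hY₀n : Y₀.Normal) (hYn : Y.Normal) (hle : Y₀ ≤ Y) (hYp : IsPGroup p Y)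
    (hcard : Nat.card Y ≤ p * Nat.card Y₀) : ∀ y ∈ Y, ⁅y, g⁆ ∈ Y₀ := by
  haveI := hY₀n
  have hcyc := quot_cyclic p Y₀ Y hle hYp hcard
  haveI : (Y.map (QuotientGroup.mk' Y₀)).Normal :=
    Subgroup.Normal.map hYn _ (QuotientGroup.mk'_surjective Y₀)
  intro y hy
  exact comm_mem_of_quot Y₀ y g
    (comm_cyclic_map (QuotientGroup.mk' Y₀) (Y.map (QuotientGroup.mk' Y₀)) hcyc g hg
      _ (Subgroup.mem_map_of_mem _ hy))

/-- `(p - 1)`-th powers act trivially on normal sections of order `p` -/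
theorem hcyc_pow [Finite G] (p : ℕ) [Fact p.Prime] (g₀ : G)
    (Y₀ Y : Subgroup G) (hY₀n : Y₀.Normal) (hYn : Y.Normal) (hle : Y₀ ≤ Y) (hYp : IsPGroup p Y)
    (hcard : Nat.card Y ≤ p * Nat.card Y₀) : ∀ y ∈ Y, ⁅y, g₀ ^ (p - 1)⁆ ∈ Y₀ := by
  have hpp : p.Prime := Fact.out
  haveI := hY₀n
  haveI hcyc := quot_cyclic p Y₀ Y hle hYp hcard
  haveI : (Y.map (QuotientGroup.mk' Y₀)).Normal :=
    Subgroup.Normal.map hYn _ (QuotientGroup.mk'_surjective Y₀)
  have hφ : ∀ φ : MulAut ↥(Y.map (QuotientGroup.mk' Y₀)), φ ^ (p - 1) = 1 := by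
    intro φ
    rcases quot_card p Y₀ Y hle hYp hcard with hk | hk
    · haveI : Subsingleton ↥(Y.map (QuotientGroup.mk' Y₀)) :=
        (Nat.card_eq_one_iff_unique.mp hk).1
      ext v
      exact congrArg Subtype.val (Subsingleton.elim _ _)
    · have h1 := IsCyclic.card_mulAut ↥(Y.map (QuotientGroup.mk' Y₀))
      rw [hk, Nat.totient_prime hpp] at h1
      rw [← h1]
      exact pow_card_eq_one'
  intro y hy
  have h1 : (MulAut.conjNormal ((QuotientGroup.mk' Y₀ g₀) ^ (p - 1)) :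
      MulAut ↥(Y.map (QuotientGroup.mk' Y₀))) = 1 := by
    rw [map_pow, hφ]
  have h2 := congrArg (fun f : MulAut ↥(Y.map (QuotientGroup.mk' Y₀)) =>
    ((f ⟨QuotientGroup.mk' Y₀ y, Subgroup.mem_map_of_mem _ hy⟩ :
      ↥(Y.map (QuotientGroup.mk' Y₀))) : G ⧸ Y₀)) h1
  have h3 : (QuotientGroup.mk' Y₀ g₀) ^ (p - 1) * QuotientGroup.mk' Y₀ y *
      ((QuotientGroup.mk' Y₀ g₀) ^ (p - 1))⁻¹ = QuotientGroup.mk' Y₀ y := h2
  apply comm_mem_of_quot Y₀ y (g₀ ^ (p - 1))
  rw [map_pow]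
  calc (QuotientGroup.mk' Y₀ g₀) ^ (p - 1) * QuotientGroup.mk' Y₀ y
      = ((QuotientGroup.mk' Y₀ g₀) ^ (p - 1) * QuotientGroup.mk' Y₀ y *
        ((QuotientGroup.mk' Y₀ g₀) ^ (p - 1))⁻¹) * (QuotientGroup.mk' Y₀ g₀) ^ (p - 1) := by
        group
    _ = QuotientGroup.mk' Y₀ y * (QuotientGroup.mk' Y₀ g₀) ^ (p - 1) := by rw [h3]

set_option maxHeartbeats 1600000 in
/-- main induction, for an element acting trivially on the normal sections of order `p` -/
theorem narrow_aux2 [Finite G] (p : ℕ) [Fact p.Prime] (hp2 : p ≠ 2)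
    (P T : Subgroup G) [hPn : P.Normal] [hTn : T.Normal] (hP : IsPGroup p P)
    (hidx : T.relIndex P = p) (x : G) (hx : x ∈ P) (Z : Subgroup G) (hZ : Nat.card Z ≤ p)
    (hgood : ∀ y ∈ T, y ^ p = 1 → y * x = x * y → y ∈ Z)
    (g : G) (hgp : (orderOf g).Coprime p)
    (hcyc : ∀ Y₀ Y : Subgroup G, Y₀.Normal → Y.Normal → Y₀ ≤ Y → Y ≤ P →
      Nat.card Y ≤ p * Nat.card Y₀ → ∀ y ∈ Y, ⁅y, g⁆ ∈ Y₀) :
    ∀ (n : ℕ) (Y : Subgroup G), Y.Normal → Y ≤ P → Nat.card Y ≤ n →
      ∀ y ∈ Y, g * y = y * g := by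
  have hpp : p.Prime := Fact.out
  have hodd : Odd p := hpp.odd_of_ne_two hp2
  intro n
  induction n with
  | zero =>
    intro Y _ _ hc
    have := Nat.card_pos (α := ↥Y)
    omega
  | succ n ih =>
    intro Y hYn hYP hc
    obtain ⟨Y₀, hY₀⟩ : ∃ Y₀ : Subgroup G, Y₀ = sSup {M : Subgroup G | M.Normal ∧ M < Y} :=
      ⟨_, rfl⟩
    have hY₀n : Y₀.Normal := by
      rw [hY₀]
      exact Subgroup.sSup_normal _ (fun M hM => hM.1)
    have hY₀le : Y₀ ≤ Y := by
      rw [hY₀]
      exact sSup_le (fun M hM => hM.2.le)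
    have hY₀g : ∀ y ∈ Y₀, g * y = y * g := by
      have h1 : Y₀ ≤ Subgroup.centralizer {g} := by
        rw [hY₀]
        apply sSup_le
        intro M hM y hy
        rw [Subgroup.mem_centralizer_iff]
        intro h hh
        rw [Set.mem_singleton_iff] at hh
        rw [hh]
        exact ih M hM.1 (hM.2.le.trans hYP)
          (by have := Cfsg.Agent.Lib.Helper6.card_lt_card_of_lt_sub hM.2; omega) y hy
      intro y hy
      have h2 := h1 hy
      rw [Subgroup.mem_centralizer_iff] at h2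
      exact h2 g rfl
    have hmax : ∀ M : Subgroup G, M.Normal → M ≤ Y → M ≠ Y → M ≤ Y₀ := by
      intro M hMn hMY hne
      rw [hY₀]
      exact le_sSup ⟨hMn, lt_of_le_of_ne hMY hne⟩
    by_cases hYY₀ : Y₀ = Y
    · intro y hy
      exact hY₀g y (hYY₀ ▸ hy)
    have hpel : ∀ y ∈ P, ∃ k : ℕ, y ^ p ^ k = 1 := by
      intro y hy
      obtain ⟨k, hk⟩ := hP ⟨y, hy⟩
      exact ⟨k, congrArg Subtype.val hk⟩
    suffices hsuff : ∀ y ∈ Y, ⁅y, g⁆ ∈ Y₀ by
      intro y hy
      have h1 := hsuff y hy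
      obtain ⟨k, hk⟩ := hpel _ (hYP (hY₀le h1))
      exact comm_of_comm_mem p g y hgp (hY₀g _ h1).symm k hk
    obtain ⟨N, hN⟩ : ∃ N : Subgroup G, N = Subgroup.normalClosure {g} := ⟨_, rfl⟩
    have hNn : N.Normal := hN ▸ Subgroup.normalClosure_normal
    have hgN : g ∈ N := hN ▸ Subgroup.subset_normalClosure (Set.mem_singleton g)
    have hNc : N ≤ Subgroup.centralizer (Y₀ : Set G) := by
      rw [hN]
      apply Subgroup.normalClosure_le_normal
      rintro _ rfl
      rw [SetLike.mem_coe, Subgroup.mem_centralizer_iff]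
      intro y hy
      exact (hY₀g y hy).symm
    have hY₁n : (⁅Y, N⁆ : Subgroup G).Normal := Subgroup.commutator_normal Y N
    have hY₁le : ⁅Y, N⁆ ≤ Y := Subgroup.commutator_le_left Y N
    by_cases hA : ⁅Y, N⁆ ≤ Y₀
    · intro y hy
      exact hA (Subgroup.commutator_mem_commutator hy hgN)
    have hY₁ : ⁅Y, N⁆ = Y := by
      by_contra hne
      exact hA (hmax _ hY₁n hY₁le hne)
    have hYc : Y ≤ Subgroup.centralizer (Y₀ : Set G) := by
      have h3 : ⁅⁅Y, N⁆, Y₀⁆ = ⊥ := by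
        apply Subgroup.commutator_commutator_eq_bot_of_rotate
        · rw [Subgroup.commutator_eq_bot_iff_le_centralizer.mpr hNc, Subgroup.commutator_bot_left]
        · rw [eq_bot_iff]
          calc ⁅⁅Y₀, Y⁆, N⁆ ≤ ⁅Y₀, N⁆ :=
                Subgroup.commutator_mono (Subgroup.commutator_le_left Y₀ Y) le_rfl
            _ = ⊥ := by
                rw [Subgroup.commutator_comm,
                  Subgroup.commutator_eq_bot_iff_le_centralizer.mpr hNc]
      rw [hY₁] at h3
      exact Subgroup.commutator_eq_bot_iff_le_centralizer.mp h3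
    -- the index bound
    have hcard : Nat.card Y ≤ p * Nat.card Y₀ := by
      by_cases hYT : Y ≤ T
      · have hYne : Y ≠ ⊥ := by
          rintro rfl
          exact hYY₀ (le_antisymm hY₀le bot_le)
        have hYp : IsPGroup p Y := hP.to_le hYP
        obtain ⟨Φ, hΦ⟩ : ∃ Φ, Φ = (frattini ↥Y).map Y.subtype := ⟨_, rfl⟩
        have hΦn : Φ.Normal := by
          apply Cfsg.Agent.Lib.Helper2.normal_of_forall_normalizer
          intro g
          rw [hΦ]
          exact Cfsg.Agent.Lib.Helper18.normalizer_le_normalizer_map_frattini Y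
            (Cfsg.Agent.Lib.Helper2.mem_normalizer_of_normal Y g)
        have hΦle : Φ ≤ Y := hΦ ▸ Subgroup.map_subtype_le _
        have hΦne : Φ ≠ Y := by
          intro heq
          have hfr : frattini ↥Y = ⊤ := by
            apply Subgroup.map_injective Y.subtype_injective
            rw [← hΦ, heq, ← MonoidHom.range_eq_map, Subgroup.range_subtype]
          have hnt : Nontrivial ↥Y := by
            obtain ⟨v, hv⟩ := (Subgroup.ne_bot_iff_exists_ne_one).mp hYne
            exact ⟨⟨v, 1, hv⟩⟩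
          obtain ⟨M, hM⟩ : ∃ M : Subgroup ↥Y, IsCoatom M := by
            rcases IsCoatomic.eq_top_or_exists_le_coatom (⊥ : Subgroup ↥Y) with h | ⟨M, hM, -⟩
            · exact absurd h bot_ne_top
            · exact ⟨M, hM⟩
          have h1 := frattini_le_coatom hM
          rw [hfr] at h1
          exact hM.1 (top_le_iff.mp h1)
        have hpow : ∀ y ∈ Y, y ^ p ∈ Y₀ := by
          intro y hy
          apply hmax Φ hΦn hΦle hΦne
          rw [hΦ]
          exact ⟨⟨y, hy⟩ ^ p, Cfsg.Agent.Lib.Helper28.pow_mem_frattini hYp ⟨y, hy⟩, rfl⟩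
        have hcomm : ⁅Y, P⁆ ≤ Y₀ :=
          hmax _ (Subgroup.commutator_normal Y P) (Subgroup.commutator_le_left Y P)
            (Cfsg.Agent.Lib.Helper1.commutator_lt_of_pgroups hYp hP
              (by rw [Subgroup.normalizer_eq_top]; exact le_top) hYne).ne
        have hmul : ∀ a ∈ Y, ∀ b ∈ Y, (a * b) ^ p = a ^ p * b ^ p := by
          intro a ha b hb
          have hk0 : ⁅b, a⁆ ∈ Y₀ := hcomm (Subgroup.commutator_mem_commutator hb (hYP ha))
          have hka : ⁅b, a⁆ * a = a * ⁅b, a⁆ :=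
            Subgroup.mem_centralizer_iff.mp (hYc ha) _ hk0
          have hkb : ⁅b, a⁆ * b = b * ⁅b, a⁆ :=
            Subgroup.mem_centralizer_iff.mp (hYc hb) _ hk0
          have hba : b * a = a * b * ⁅b, a⁆ := by
            calc b * a = ⁅b, a⁆ * a * b := by rw [commutatorElement_def]; group
              _ = a * ⁅b, a⁆ * b := by rw [hka]
              _ = a * (⁅b, a⁆ * b) := by group
              _ = a * (b * ⁅b, a⁆) := by rw [hkb]
              _ = a * b * ⁅b, a⁆ := by group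
          have hkp : ⁅b, a⁆ ^ p = 1 := by
            have h1 : a⁻¹ * b * a = b * ⁅b, a⁆ := by rw [mul_assoc, hba]; group
            have h2 : (a⁻¹ * b * a) ^ p = b ^ p := by
              have e : a⁻¹ * b * a = a⁻¹ * b * a⁻¹⁻¹ := by group
              rw [e, conj_pow]
              have hc := Subgroup.mem_centralizer_iff.mp (hYc ha) _ (hpow b hb)
              rw [inv_inv, mul_assoc, hc]; group
            rw [h1, (show Commute b ⁅b, a⁆ from hkb.symm).mul_pow] at h2
            exact mul_left_cancel (a := b ^ p) (by rw [h2, mul_one])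
          exact mul_pow_prime_class_two p hodd a b _ hba hka hkb hkp
        have hexp : ∀ y ∈ Y, y ^ p = 1 := by
          obtain ⟨E, hE⟩ : ∃ E : Subgroup G, ∀ y : G, y ∈ E ↔ (y ∈ Y ∧ y ^ p = 1) :=
            ⟨{ carrier := {y | y ∈ Y ∧ y ^ p = 1}
               mul_mem' := by
                 rintro a b ⟨ha, ha'⟩ ⟨hb, hb'⟩
                 exact ⟨Y.mul_mem ha hb, by rw [hmul a ha b hb, ha', hb', one_mul]⟩
               one_mem' := ⟨Y.one_mem, one_pow _⟩
               inv_mem' := by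
                 rintro a ⟨ha, ha'⟩
                 exact ⟨Y.inv_mem ha, by rw [inv_pow, ha', inv_one]⟩ }, fun y => Iff.rfl⟩
          have hle : ⁅Y, N⁆ ≤ E := by
            rw [Subgroup.commutator_le]
            intro c hc n hn
            rw [hE]
            refine ⟨hY₁le (Subgroup.commutator_mem_commutator hc hn), ?_⟩
            have e : ⁅c, n⁆ = c * (n * c⁻¹ * n⁻¹) := by rw [commutatorElement_def]; group
            rw [e, hmul c hc _ (hYn.conj_mem _ (Y.inv_mem hc) n), conj_pow, inv_pow]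
            have hcn := Subgroup.mem_centralizer_iff.mp (hNc hn) _ (hpow c hc)
            calc c ^ p * (n * (c ^ p)⁻¹ * n⁻¹) = (c ^ p * n) * (c ^ p)⁻¹ * n⁻¹ := by group
              _ = (n * c ^ p) * (c ^ p)⁻¹ * n⁻¹ := by rw [hcn]
              _ = 1 := by group
          intro y hy
          have hy' : y ∈ ⁅Y, N⁆ := by rw [hY₁]; exact hy
          exact ((hE y).mp (hle hy')).2
        have hf : ∀ y : ↥Y, ⁅(y : G), x⁆ ∈ Y₀ :=
          fun y => hcomm (Subgroup.commutator_mem_commutator y.2 hx)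
        have hfib : ∀ y y' : ↥Y, ⁅(y' : G), x⁆ = ⁅(y : G), x⁆ → (y : G)⁻¹ * (y' : G) ∈ Z := by
          intro y y' h
          apply hgood
          · exact hYT (Y.mul_mem (Y.inv_mem y.2) y'.2)
          · exact hexp _ (Y.mul_mem (Y.inv_mem y.2) y'.2)
          · rw [commutatorElement_def, commutatorElement_def] at h
            have h2 : (y' : G) * x * (y' : G)⁻¹ = (y : G) * x * (y : G)⁻¹ := mul_right_cancel h
            calc (y : G)⁻¹ * y' * x = (y : G)⁻¹ * (y' * x * (y' : G)⁻¹) * y' := by group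
              _ = (y : G)⁻¹ * (y * x * (y : G)⁻¹) * y' := by rw [h2]
              _ = x * ((y : G)⁻¹ * y') := by group
        have h1 := card_le_of_fibers (fun y : ↥Y => (⟨⁅(y : G), x⁆, hf y⟩ : ↥Y₀)) p (by
          intro y
          refine le_trans ?_ hZ
          apply Nat.card_le_card_of_injective
            (fun y' : {y' : ↥Y // (⟨⁅(y' : G), x⁆, hf y'⟩ : ↥Y₀) = ⟨⁅(y : G), x⁆, hf y⟩} =>
              (⟨(y : G)⁻¹ * (y'.1 : G), hfib y y'.1 (congrArg Subtype.val y'.2)⟩ : ↥Z))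
          intro a b hab
          have h3 : (y : G)⁻¹ * (a.1 : G) = (y : G)⁻¹ * (b.1 : G) := congrArg Subtype.val hab
          exact Subtype.ext (Subtype.ext (mul_left_cancel h3)))
        exact h1
      · have h1 : Y ⊓ T ≤ Y₀ := hmax _ (Subgroup.normal_inf_normal Y T) inf_le_left
          (fun h => hYT (h ▸ inf_le_right))
        have h2 : (Y ⊓ T).relIndex Y ≤ p := by
          rw [Subgroup.inf_relIndex_left, ← hidx]
          exact Subgroup.relIndex_le_of_le_right hYP (by rw [hidx]; exact hpp.ne_zero)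
        have h3 := card_mul_relIndex' (inf_le_left : Y ⊓ T ≤ Y)
        have h4 : Nat.card ↥(Y ⊓ T) ≤ Nat.card Y₀ :=
          Nat.le_of_dvd Nat.card_pos (Subgroup.card_dvd_of_le h1)
        calc Nat.card Y = Nat.card ↥(Y ⊓ T) * (Y ⊓ T).relIndex Y := h3.symm
          _ ≤ Nat.card Y₀ * p := Nat.mul_le_mul h4 h2
          _ = p * Nat.card Y₀ := mul_comm _ _
    exact hcyc Y₀ Y hY₀n hYn hY₀le hYP hcard

/-- an element of order prime to `p` acting trivially on the normal sections of order `p`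
centralizes a narrow normal `p`-subgroup -/
theorem narrow_centralizes2 [Finite G] (p : ℕ) [Fact p.Prime] (hp2 : p ≠ 2)
    (P T : Subgroup G) [hPn : P.Normal] [hTn : T.Normal] (hP : IsPGroup p P)
    (hidx : T.relIndex P = p) (x : G) (hx : x ∈ P) (Z : Subgroup G) (hZ : Nat.card Z ≤ p)
    (hgood : ∀ y ∈ T, y ^ p = 1 → y * x = x * y → y ∈ Z)
    (g : G) (hgp : (orderOf g).Coprime p)
    (hcyc : ∀ Y₀ Y : Subgroup G, Y₀.Normal → Y.Normal → Y₀ ≤ Y → Y ≤ P →
      Nat.card Y ≤ p * Nat.card Y₀ → ∀ y ∈ Y, ⁅y, g⁆ ∈ Y₀) :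
    ∀ y ∈ P, g * y = y * g :=
  narrow_aux2 p hp2 P T hP hidx x hx Z hZ hgood g hgp hcyc (Nat.card P) P hPn le_rfl le_rfl

/-- the `(p - 1)`-th power of an element of order prime to `p` centralizes a narrow normal
`p`-subgroup -/
theorem narrow_centralizes_pow [Finite G] (p : ℕ) [Fact p.Prime] (hp2 : p ≠ 2)
    (P T : Subgroup G) [hPn : P.Normal] [hTn : T.Normal] (hP : IsPGroup p P)
    (hidx : T.relIndex P = p) (x : G) (hx : x ∈ P) (Z : Subgroup G) (hZ : Nat.card Z ≤ p)
    (hgood : ∀ y ∈ T, y ^ p = 1 → y * x = x * y → y ∈ Z)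
    (g₀ : G) (hgp : (orderOf g₀).Coprime p) :
    ∀ y ∈ P, g₀ ^ (p - 1) * y = y * g₀ ^ (p - 1) :=
  narrow_centralizes2 p hp2 P T hP hidx x hx Z hZ hgood (g₀ ^ (p - 1))
    (Nat.Coprime.coprime_dvd_left (orderOf_pow_dvd (p - 1)) hgp)
    (fun Y₀ Y hY₀n hYn hle hYP hcard =>
      hcyc_pow p g₀ Y₀ Y hY₀n hYn hle (hP.to_le hYP) hcard)

end Cfsg.Agent.Lib.Helper12.NarrowAut2
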