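import Mathlib
import Cfsg.Prelude.Def_CaseTheorems
import Cfsg.Prelude.Def_OddOrderLocal
import Cfsg.Agent.S1453
import Cfsg.Agent.Lib.Helper12.NarrowAut
import Cfsg.Agent.Lib.Helper12.Rk2Fit

/-!
Helper lemmas (helper12): if `O_p(G)` (`p` odd) has rank at least three but the centralizer in it
of an elementary abelian subgroup `E` has rank at most two, then the elements of order prime to
`p` of the derived subgroup centralize `O_p(G)`.
-/

set_option autoImplicit false
set_option linter.style.haveILetI false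

namespace Cfsg.Agent.Lib.Helper12.NarrowFit

open scoped commutatorElement
open Cfsg.Agent.Lib.Helper12

set_option maxHeartbeats 1600000 in
/-- the narrow case for a normal `p`-subgroup -/
theorem narrow_case {G : Type*} [Group G] [Finite G] (p : ℕ) [Fact p.Prime] (hp2 : p ≠ 2)
    (P : Subgroup G) [hPn : P.Normal] (hP : IsPGroup p ↥P)
    (E : Subgroup G) (hEP : E ≤ P) (hEe : Cfsg.IsElementaryAbelian p E)
    (hr : Cfsg.PRankLE p 2 ↥(P ⊓ Subgroup.centralizer (E : Set G)))
    (hrk : ¬ Cfsg.PRankLE p 2 ↥P)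
    (g : G) (hg : g ∈ commutator G) (hgp : (orderOf g).Coprime p) :
    ∀ y ∈ P, g * y = y * g := by
  classical
  have hpp : p.Prime := Fact.out
  obtain ⟨E₀, hE₀⟩ : ∃ E₀ : Subgroup ↥P, E₀ = E.subgroupOf P := ⟨_, rfl⟩
  have hE₀mem : ∀ e : ↥P, e ∈ E₀ ↔ (e : G) ∈ E := by
    intro e
    rw [hE₀, Subgroup.mem_subgroupOf]
  have hEcomm : ∀ a ∈ E, ∀ b ∈ E, a * b = b * a := fun a ha b hb =>
    congrArg Subtype.val (hEe.1.is_comm.comm (⟨a, ha⟩ : E) ⟨b, hb⟩)
  have hE₀ea : Cfsg.IsElementaryAbelian p E₀ := by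
    have h1 := Cfsg.Agent.Lib.Helper12.elemAb_closure p (E₀ : Set ↥P) (by
      intro a ha b hb
      exact Subtype.ext (hEcomm a ((hE₀mem a).mp ha) b ((hE₀mem b).mp hb))) (by
      intro a ha
      apply Subtype.ext
      rw [Subgroup.coe_pow, Subgroup.coe_one]
      exact hEe.2 a ((hE₀mem a).mp ha))
    rwa [Subgroup.closure_eq] at h1
  -- the rank bound
  have hbound : ∀ B : Subgroup ↥P, Cfsg.IsElementaryAbelian p B →
      (∀ b ∈ B, ∀ e ∈ E₀, b * e = e * b) → Nat.card B ≤ p ^ 2 := by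
    intro B hB hBE
    haveI := hB.1
    have h1 := hr ((B.map P.subtype).subgroupOf (P ⊓ Subgroup.centralizer (E : Set G)))
      inferInstance (by
      intro x hx
      rw [Subgroup.mem_subgroupOf] at hx
      obtain ⟨b, hb, hbx⟩ := hx
      apply Subtype.ext
      rw [Subgroup.coe_pow, ← hbx, Subgroup.coe_one]
      have := hB.2 b hb
      change ((b : ↥P) : G) ^ p = 1
      rw [← Subgroup.coe_pow, this, Subgroup.coe_one])
    have hle : B.map P.subtype ≤ P ⊓ Subgroup.centralizer (E : Set G) := by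
      rintro _ ⟨b, hb, rfl⟩
      refine Subgroup.mem_inf.mpr ⟨b.2, ?_⟩
      rw [Subgroup.mem_centralizer_iff]
      intro e he
      have := hBE b hb ⟨e, hEP he⟩ ((hE₀mem _).mpr he)
      exact (congrArg Subtype.val this).symm
    have e : Nat.card ↥((B.map P.subtype).subgroupOf (P ⊓ Subgroup.centralizer (E : Set G))) =
        Nat.card B := by
      rw [Nat.card_congr (Subgroup.subgroupOfEquivOfLe hle).toEquiv,
        Subgroup.card_map_of_injective P.subtype_injective]
    rwa [e] at h1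
  -- a maximal elementary abelian subgroup containing `E`
  obtain ⟨F, ⟨hFea, hE₀F⟩, hFmaxc⟩ : ∃ F : Subgroup ↥P,
      (Cfsg.IsElementaryAbelian p F ∧ E₀ ≤ F) ∧
      ∀ B : Subgroup ↥P, Cfsg.IsElementaryAbelian p B → E₀ ≤ B → Nat.card B ≤ Nat.card F := by
    haveI : Nonempty {B : Subgroup ↥P // Cfsg.IsElementaryAbelian p B ∧ E₀ ≤ B} :=
      ⟨⟨E₀, hE₀ea, le_rfl⟩⟩
    obtain ⟨⟨B₀, hB₀⟩, hmax⟩ := Finite.exists_max
      (fun B : {B : Subgroup ↥P // Cfsg.IsElementaryAbelian p B ∧ E₀ ≤ B} => Nat.card B.1)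
    exact ⟨B₀, hB₀, fun B hB hle => hmax ⟨B, hB, hle⟩⟩
  have hFcomm : ∀ a ∈ F, ∀ b ∈ F, a * b = b * a := fun a ha b hb =>
    congrArg Subtype.val (hFea.1.is_comm.comm (⟨a, ha⟩ : F) ⟨b, hb⟩)
  have hFmax : ∀ B : Subgroup ↥P, Cfsg.IsElementaryAbelian p B → F ≤ B → B = F := by
    intro B hB hle
    exact (Subgroup.eq_of_le_of_card_ge hle (hFmaxc B hB (hE₀F.trans hle))).symm
  have hsup : ∀ N : Set ↥P, (∀ a ∈ N, ∀ b ∈ N, a * b = b * a) → (∀ a ∈ N, a ^ p = 1) →
      (∀ e ∈ F, ∀ n ∈ N, e * n = n * e) → N ⊆ F := by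
    intro N hNc hNe hEN
    have hD := Cfsg.Agent.Lib.Helper12.elemAb_closure p ((F : Set ↥P) ∪ N) (by
      rintro x (hx | hx) y (hy | hy)
      · exact hFcomm x hx y hy
      · exact hEN x hx y hy
      · exact (hEN y hy x hx).symm
      · exact hNc x hx y hy) (by
      rintro x (hx | hx)
      · exact hFea.2 x hx
      · exact hNe x hx)
    have hle : F ≤ Subgroup.closure ((F : Set ↥P) ∪ N) := by
      intro e he
      exact Subgroup.subset_closure (Or.inl he)
    have := hFmax _ hD hle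
    intro n hn
    have h1 : n ∈ Subgroup.closure ((F : Set ↥P) ∪ N) := Subgroup.subset_closure (Or.inr hn)
    rw [this] at h1
    exact h1
  have hFle : Nat.card F ≤ p ^ 2 := hbound F hFea (fun b hb e he => hFcomm b hb e (hE₀F he))
  have hFcard : Nat.card F = p ^ 2 := by
    obtain ⟨k, hk⟩ := IsPGroup.iff_card.mp (hP.to_subgroup F)
    have hk2 : k ≤ 2 := by
      rw [hk] at hFle
      exact (Nat.pow_le_pow_iff_right hpp.one_lt).mp hFle
    by_contra hne
    have hk1 : k ≤ 1 := by
      rcases Nat.lt_or_ge k 2 with h | h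
      · omega
      · exfalso
        apply hne
        rw [hk]
        congr 1
        omega
    apply hrk
    intro A hAc hAe
    by_cases hsub : Subsingleton ↥P
    · have : Nat.card A ≤ 1 := Finite.card_le_one_iff_subsingleton.mpr inferInstance
      exact this.trans (Nat.one_le_pow _ _ hpp.pos)
    haveI : Nontrivial ↥P := not_subsingleton_iff_nontrivial.mp hsub
    haveI : Nontrivial ↥(Subgroup.center ↥P) := hP.center_nontrivial
    have hdvd : p ∣ Nat.card ↥(Subgroup.center ↥P) := by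
      rcases (hP.to_subgroup (Subgroup.center ↥P)).card_eq_or_dvd with h | h
      · exact absurd h (by
          have := Finite.one_lt_card (α := ↥(Subgroup.center ↥P))
          omega)
      · exact h
    obtain ⟨⟨z, hzc⟩, hz⟩ := exists_prime_orderOf_dvd_card' p hdvd
    rw [Subgroup.orderOf_mk] at hz
    have hzp : z ^ p = 1 := by rw [← hz]; exact pow_orderOf_eq_one z
    have hzF : z ∈ F := by
      apply hsup {z} (by simp) (by simp [hzp]) ?_ (Set.mem_singleton z)
      intro e _ n hn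
      rw [Set.mem_singleton_iff] at hn
      rw [hn]
      exact Subgroup.mem_center_iff.mp hzc e
    have hFz : Subgroup.zpowers z = F := by
      apply Subgroup.eq_of_le_of_card_ge (Subgroup.zpowers_le.mpr hzF)
      rw [Nat.card_zpowers, hz, hk]
      calc p ^ k ≤ p ^ 1 := Nat.pow_le_pow_right hpp.pos hk1
        _ = p := pow_one p
    apply hbound A ⟨hAc, hAe⟩
    intro b _ e he
    have he' : e ∈ Subgroup.zpowers z := hFz ▸ hE₀F he
    have hec : e ∈ Subgroup.center ↥P := Subgroup.zpowers_le.mpr hzc he'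
    exact Subgroup.mem_center_iff.mp hec b
  -- the structure of `P`
  obtain ⟨hnle, hZcard, -, hTchar, hTidx⟩ :=
    Cfsg.Agent.S1453.result p hp2 hP hrk F hFea hFcard hFmax
  obtain ⟨T', hT'⟩ : ∃ T' : Subgroup ↥P, T' = Subgroup.centralizer ((Subgroup.closure
      {x : ↥P | x ∈ Subgroup.upperCentralSeries ↥P 2 ∧ x ^ p = 1} : Subgroup ↥P) : Set ↥P) :=
    ⟨_, rfl⟩
  obtain ⟨Z₁, hZ₁⟩ : ∃ Z₁ : Subgroup ↥P,
      Z₁ = Subgroup.closure {x : ↥P | x ∈ Subgroup.center ↥P ∧ x ^ p = 1} := ⟨_, rfl⟩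
  rw [← hT'] at hnle hTchar hTidx
  rw [← hZ₁] at hZcard
  obtain ⟨x', hx'F, hx'T⟩ : ∃ x' ∈ F, x' ∉ T' := by
    by_contra h
    push Not at h
    exact hnle h
  have hZ₁c : Z₁ ≤ Subgroup.center ↥P := by
    rw [hZ₁, Subgroup.closure_le]
    intro z hz
    exact hz.1
  have hZ₁T : Z₁ ≤ T' := by
    rw [hT']
    intro z hz
    rw [Subgroup.mem_centralizer_iff]
    intro w _
    exact Subgroup.mem_center_iff.mp (hZ₁c hz) w
  have hZ₁F : Z₁ ≤ F := by
    rw [hZ₁, Subgroup.closure_le]
    apply hsup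
    · intro a ha b _
      exact (Subgroup.mem_center_iff.mp ha.1 b).symm
    · intro a ha
      exact ha.2
    · intro e _ n hn
      exact Subgroup.mem_center_iff.mp hn.1 e
  have hD : Subgroup.zpowers x' ⊔ Z₁ = F := by
    have hle : Subgroup.zpowers x' ⊔ Z₁ ≤ F := sup_le (Subgroup.zpowers_le.mpr hx'F) hZ₁F
    apply Subgroup.eq_of_le_of_card_ge hle
    have hlt : Z₁ < Subgroup.zpowers x' ⊔ Z₁ := by
      refine lt_of_le_of_ne le_sup_right (fun h => hx'T (hZ₁T ?_))
      rw [h]
      exact (le_sup_left : Subgroup.zpowers x' ≤ _) (Subgroup.mem_zpowers x')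
    have hc1 := Cfsg.Agent.Lib.Helper6.card_lt_card_of_lt_sub hlt
    have hd : Nat.card ↥(Subgroup.zpowers x' ⊔ Z₁) ∣ p ^ 2 :=
      hFcard ▸ Subgroup.card_dvd_of_le hle
    obtain ⟨i, hi, hci⟩ := (Nat.dvd_prime_pow hpp).mp hd
    rw [hci, hZcard] at hc1
    rw [hFcard, hci]
    have hi2 : i = 2 := by
      rcases i with _ | _ | i
      · rw [pow_zero] at hc1
        have := hpp.one_lt
        omega
      · rw [zero_add, pow_one] at hc1
        omega
      · omega
    rw [hi2]
  have hgood' : ∀ y' ∈ T', y' ^ p = 1 → y' * x' = x' * y' → y' ∈ Z₁ := by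
    intro y' hy'T hy'p hy'x
    have hy'F : y' ∈ F := by
      apply hsup {y'} (by simp) (by simp [hy'p]) ?_ (Set.mem_singleton y')
      intro e he n hn
      rw [Set.mem_singleton_iff] at hn
      rw [hn]
      have hcz : Subgroup.zpowers x' ⊔ Z₁ ≤ Subgroup.centralizer {y'} := by
        apply sup_le
        · rw [Subgroup.zpowers_le, Subgroup.mem_centralizer_iff]
          intro h hh
          rw [Set.mem_singleton_iff] at hh
          rw [hh]
          exact hy'x
        · intro z hz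
          rw [Subgroup.mem_centralizer_iff]
          intro h hh
          rw [Set.mem_singleton_iff] at hh
          rw [hh]
          exact Subgroup.mem_center_iff.mp (hZ₁c hz) y'
      have h1 := hcz (hD ▸ he)
      rw [Subgroup.mem_centralizer_iff] at h1
      exact (h1 y' rfl).symm
    have hlt : F ⊓ T' < F := by
      refine lt_of_le_of_ne inf_le_left (fun h => hx'T ?_)
      have : x' ∈ F ⊓ T' := by rw [h]; exact hx'F
      exact this.2
    have hc1 := Cfsg.Agent.Lib.Helper6.card_lt_card_of_lt_sub hlt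
    have hd : Nat.card ↥(F ⊓ T') ∣ p ^ 2 := hFcard ▸ Subgroup.card_dvd_of_le inf_le_left
    obtain ⟨i, hi, hci⟩ := (Nat.dvd_prime_pow hpp).mp hd
    have hle : Z₁ ≤ F ⊓ T' := le_inf hZ₁F hZ₁T
    have heq : Z₁ = F ⊓ T' := by
      apply Subgroup.eq_of_le_of_card_ge hle
      rw [hZcard, hci]
      rw [hci, hFcard] at hc1
      have hi1 : i ≤ 1 := by
        have := (Nat.pow_lt_pow_iff_right hpp.one_lt).mp hc1
        omega
      calc p ^ i ≤ p ^ 1 := Nat.pow_le_pow_right hpp.pos hi1
        _ = p := pow_one p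
    rw [heq]
    exact ⟨hy'F, hy'T⟩
  -- transport to `G`
  haveI := hTchar
  haveI hTGn : (T'.map P.subtype).Normal := inferInstance
  have hidx : (T'.map P.subtype).relIndex P = p := by
    have h1 : (T'.map P.subtype).subgroupOf P = T' :=
      Subgroup.comap_map_eq_self_of_injective P.subtype_injective T'
    rw [Subgroup.relIndex, h1, hTidx]
  have hZle : Nat.card ↥(Z₁.map P.subtype) ≤ p := by
    rw [Subgroup.card_map_of_injective P.subtype_injective, hZcard]
  exact NarrowAut.narrow_centralizes p hp2 P (T'.map P.subtype) hP hidx (x' : G) x'.2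
    (Z₁.map P.subtype) hZle (by
      rintro _ ⟨y', hy'T, rfl⟩ hyp hyx
      refine ⟨y', hgood' y' hy'T ?_ ?_, rfl⟩
      · apply Subtype.ext
        rw [Subgroup.coe_pow, Subgroup.coe_one]
        exact hyp
      · apply Subtype.ext
        rw [Subgroup.coe_mul, Subgroup.coe_mul]
        exact hyx) g hg hgp

end Cfsg.Agent.Lib.Helper12.NarrowFit
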