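import Mathlib
import Cfsg.Agent.Lib.Helper12.Puig
import Cfsg.Agent.S1465
import Cfsg.Agent.Lib.Helper1.Cores
import Cfsg.Agent.Lib.Helper6.ZJ
import Cfsg.Agent.Lib.Helper6.ZJMap
import Cfsg.Agent.Lib.Helper6.PSolv3

set_option autoImplicit false

namespace Cfsg.Agent.Lib.Helper12.Puig

/-- an abelian subgroup of a Sylow `p`-subgroup normalized by a suitable normal `p`-subgroup `Y`
lies in `O_p(G)` -/
theorem le_pCore_of_normalized {G : Type*} [Group G] [Finite G] [Group.IsSolvable G]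
    (hodd : Odd (Nat.card G)) (p : ℕ) [Fact p.Prime] (hO : Cfsg.pPrimeCore p G = ⊥)
    (S : Sylow p G) (Y : Subgroup G) [Y.Normal] (hYp : IsPGroup p Y)
    (hcY : Cfsg.pCore p G ⊓ Subgroup.centralizer (Y : Set G) ≤ Y)
    (A : Subgroup G) (hAS : A ≤ (S : Subgroup G)) (hAc : IsMulCommutative A)
    (hAN : Y ≤ Subgroup.normalizer (A : Set G)) : A ≤ Cfsg.pCore p G := by
  have h := (Cfsg.Agent.S1465.main hodd p Y hYp {A} (by
    rintro B rfl
    exact ⟨hAc, S.isPGroup'.to_le hAS, hAN⟩)).2 hO hcY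
  rwa [sSup_singleton] at h

/-- B & G, Theorem B.3 (termwise): `L_{2n}(S) ≤ L_{2n}(T)` and `L_{2n+1}(T) ≤ L_{2n+1}(S)`
for `T = O_p(G)`. -/
theorem chain {G : Type*} [Group G] [Finite G] [Group.IsSolvable G] (hodd : Odd (Nat.card G))
    (p : ℕ) [Fact p.Prime] (hO : Cfsg.pPrimeCore p G = ⊥) (S : Sylow p G) (n : ℕ) :
    relSeq (S : Subgroup G) (2 * n) ≤ relSeq (Cfsg.pCore p G) (2 * n) ∧
      relSeq (Cfsg.pCore p G) (2 * n + 1) ≤ relSeq (S : Subgroup G) (2 * n + 1) := by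
  have hTS : Cfsg.pCore p G ≤ (S : Subgroup G) := Cfsg.Agent.Lib.Helper1.pCore_le_sylow S
  have hTp : IsPGroup p (Cfsg.pCore p G) := Cfsg.Agent.Lib.Helper1.pCore_isPGroup p
  have hTn : (Cfsg.pCore p G).Normal := Cfsg.Agent.Lib.Helper1.pCore_normal p
  induction n with
  | zero => exact ⟨bot_le, relStep_mono _ hTS⟩
  | succ n ih =>
    have hc : relSeq (S : Subgroup G) (2 * n + 2) ≤ relSeq (Cfsg.pCore p G) (2 * n + 2) := by
      show relStep (S : Subgroup G) (relSeq (S : Subgroup G) (2 * n + 1)) ≤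
        relStep (Cfsg.pCore p G) (relSeq (Cfsg.pCore p G) (2 * n + 1))
      apply sSup_le
      rintro A ⟨hAS, hAc, hAN⟩
      refine le_relStep ?_ hAc (ih.2.trans hAN)
      have hYn : (relSeq (Cfsg.pCore p G) (2 * n + 1)).Normal := relSeq_normal _ _
      exact le_pCore_of_normalized hodd p hO S (relSeq (Cfsg.pCore p G) (2 * n + 1))
        (hTp.to_le (relSeq_le _ _)) (cent_relSeq_le p _ hTp _ (by omega)) A hAS hAc
        (ih.2.trans hAN)
    refine ⟨hc, ?_⟩
    show relStep (Cfsg.pCore p G) (relSeq (Cfsg.pCore p G) (2 * n + 2)) ≤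
      relStep (S : Subgroup G) (relSeq (S : Subgroup G) (2 * n + 2))
    exact (relStep_mono _ hTS).trans (relStep_anti hc)

/-- B & G, Theorem B.4 for `O_{p'}(G) = 1`: `Z(L(S))` is normal. -/
theorem zUpper_normal {G : Type*} [Group G] [Finite G] [Group.IsSolvable G]
    (hodd : Odd (Nat.card G)) (p : ℕ) [Fact p.Prime] (hO : Cfsg.pPrimeCore p G = ⊥)
    (S : Sylow p G) : (zUpper (S : Subgroup G)).Normal := by
  classical
  obtain ⟨T, hT⟩ : ∃ T, T = Cfsg.pCore p G := ⟨_, rfl⟩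
  have hTn : T.Normal := hT ▸ Cfsg.Agent.Lib.Helper1.pCore_normal p
  have hTp : IsPGroup p T := hT ▸ Cfsg.Agent.Lib.Helper1.pCore_isPGroup p
  have hTS : T ≤ (S : Subgroup G) := hT ▸ Cfsg.Agent.Lib.Helper1.pCore_le_sylow S
  have hLTn : (relUpper T).Normal := relUpper_normal T
  have hLTp : IsPGroup p (relUpper T) := hTp.to_le (relUpper_le T)
  have hLTS : relUpper T ≤ relUpper (S : Subgroup G) := by
    rw [hT]; exact iInf_mono (fun n => (chain hodd p hO S n).2)
  have hcent : Subgroup.centralizer ((relUpper T : Subgroup G) : Set G) ≤ T := by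
    have h1 := Cfsg.Agent.S1465.centralizer_isPGroup p (relUpper T) hLTp hO
      (by rw [← hT]; exact cent_relUpper_le p T hTp)
    have hn : (Subgroup.centralizer ((relUpper T : Subgroup G) : Set G)).Normal := inferInstance
    have h2 := Cfsg.Agent.Lib.Helper1.le_pCore p hn h1
    rwa [← hT] at h2
  obtain ⟨N, hN⟩ : ∃ N, N = zUpper T := ⟨_, rfl⟩
  have hNn : N.Normal := by
    rw [hN]
    apply Subgroup.normalizer_eq_top_iff.mp
    rw [eq_top_iff]
    refine le_trans ?_ (normalizer_le_normalizer_zUpper T)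
    rw [Subgroup.normalizer_eq_top_iff.mpr hTn]
  have hNT : N ≤ T := hN ▸ zUpper_le T
  have hNp : IsPGroup p N := hTp.to_le hNT
  have hNc : IsMulCommutative N := by
    rw [hN]
    refine ⟨⟨?_⟩⟩
    rintro ⟨a, ha⟩ ⟨b, hb⟩
    apply Subtype.ext
    have ha2 : a ∈ Subgroup.centralizer ((relUpper T : Subgroup G) : Set G) := ha.2
    have hb1 : b ∈ relUpper T := hb.1
    exact ((Subgroup.mem_centralizer_iff.mp ha2) b hb1).symm
  have hZN : zUpper (S : Subgroup G) ≤ N := by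
    intro z hz
    have hz0 : z ∈ Subgroup.centralizer ((relUpper (S : Subgroup G) : Subgroup G) : Set G) := hz.2
    have hz1 : z ∈ Subgroup.centralizer ((relUpper T : Subgroup G) : Set G) :=
      Subgroup.centralizer_le (fun x hx => hLTS hx) hz0
    have hz2 : z ∈ T := hcent hz1
    have hz3 : z ∈ relUpper T := cent_relUpper_le p T hTp ⟨hz2, hz1⟩
    rw [hN]; exact ⟨hz3, hz1⟩
  have hNL : N ≤ relLower (S : Subgroup G) := by
    rw [← relStep_relUpper]
    apply le_relStep (hNT.trans hTS) hNc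
    rw [Subgroup.normalizer_eq_top_iff.mpr hNn]; exact le_top
  obtain ⟨C, hC⟩ : ∃ C, C = Subgroup.centralizer (N : Set G) := ⟨_, rfl⟩
  have hCn : C.Normal := by rw [hC]; infer_instance
  obtain ⟨K, hK⟩ : ∃ K, K = (Cfsg.pCore p (G ⧸ C)).comap (QuotientGroup.mk' C) := ⟨_, rfl⟩
  have hKn : K.Normal := by rw [hK]; exact Subgroup.Normal.comap inferInstance _
  have hLK : relUpper (S : Subgroup G) ≤ K := by
    rw [← relStep_relLower, hK, ← Subgroup.map_le_iff_le_comap]
    subst hC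
    exact (Cfsg.Agent.S1465.main hodd p N hNp _ (by
      rintro B ⟨hBS, hBc, hBN⟩
      exact ⟨hBc, S.isPGroup'.to_le hBS, hNL.trans hBN⟩)).1
  have hR : relUpper ((S : Subgroup G) ⊓ K) = relUpper (S : Subgroup G) :=
    relUpper_eq_of_le _ _ inf_le_left (le_inf (relUpper_le _) hLK)
  have hZR : zUpper ((S : Subgroup G) ⊓ K) = zUpper (S : Subgroup G) := by
    unfold zUpper; rw [hR]
  have hKZ : K ≤ Subgroup.normalizer ((zUpper (S : Subgroup G) : Subgroup G) : Set G) := by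
    intro k hk
    have hsurj : Function.Surjective (QuotientGroup.mk' C) := QuotientGroup.mk'_surjective C
    have h1 : Cfsg.pCore p (G ⧸ C) ≤ (S.mapSurjective hsurj : Subgroup (G ⧸ C)) :=
      Cfsg.Agent.Lib.Helper1.pCore_le_sylow _
    rw [Sylow.coe_mapSurjective] at h1
    have hk' : QuotientGroup.mk' C k ∈ Cfsg.pCore p (G ⧸ C) := by
      rw [hK] at hk; exact hk
    obtain ⟨s, hs, hsk⟩ := h1 hk'
    have h2 : s⁻¹ * k ∈ C := by
      have h3 : QuotientGroup.mk' C (s⁻¹ * k) = 1 := by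
        rw [map_mul, map_inv, hsk, inv_mul_cancel]
      exact (QuotientGroup.eq_one_iff _).mp h3
    have e : k = s * (s⁻¹ * k) := by group
    rw [e]
    apply Subgroup.mul_mem
    · exact normalizer_le_normalizer_zUpper _ (Subgroup.le_normalizer hs)
    · apply Subgroup.centralizer_le_normalizer
      rw [hC] at h2
      exact Subgroup.centralizer_le (fun x hx => hZN hx) h2
  have hRZ : Subgroup.normalizer ((((S : Subgroup G) ⊓ K : Subgroup G)) : Set G) ≤
      Subgroup.normalizer ((zUpper (S : Subgroup G) : Subgroup G) : Set G) := by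
    rw [← hZR]; exact normalizer_le_normalizer_zUpper _
  apply Subgroup.normalizer_eq_top_iff.mp
  rw [eq_top_iff, ← Cfsg.Agent.Lib.Helper6.frattini_inf_normal S K]
  exact sup_le hKZ hRZ

theorem eq_one_of_pgroup_coprime' {G : Type*} [Group G] {p : ℕ} (O R : Subgroup G)
    (hO : (Nat.card O).Coprime p)
    (hR : IsPGroup p R) (z : G) (hzR : z ∈ R) (hzO : z ∈ O) : z = 1 := by
  obtain ⟨k, hk⟩ := hR ⟨z, hzR⟩
  have hk' : z ^ (p ^ k) = 1 := by
    have := congrArg Subtype.val hk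
    simpa using this
  have h1 : orderOf z ∣ p ^ k := orderOf_dvd_of_pow_eq_one hk'
  have h2 : orderOf z ∣ Nat.card O := by
    have := orderOf_dvd_natCard (⟨z, hzO⟩ : O)
    rwa [Subgroup.orderOf_mk] at this
  have h3 : orderOf z = 1 :=
    Nat.eq_one_of_dvd_coprimes (Nat.Coprime.pow_right k hO) h2 h1
  exact orderOf_eq_one_iff.mp h3

theorem injOn_mk_of_pgroup' {G : Type*} [Group G] {p : ℕ} (O R : Subgroup G) [O.Normal]
    (hO : (Nat.card O).Coprime p)
    (hR : IsPGroup p R) : Set.InjOn (QuotientGroup.mk' O) (R : Set G) := by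
  intro x hx y hy hxy
  have h1 : x⁻¹ * y ∈ O := QuotientGroup.eq.mp hxy
  have h2 := eq_one_of_pgroup_coprime' O R hO hR _ (R.mul_mem (R.inv_mem hx) hy) h1
  exact inv_mul_eq_one.mp h2

/-- B & G, Theorem B.4, general case: `G = O_{p'}(G) N_G(Z(L(S)))`. -/
theorem sup_normalizer_zUpper {G : Type*} [Group G] [Finite G] [Group.IsSolvable G]
    (hodd : Odd (Nat.card G)) (p : ℕ) [Fact p.Prime] (S : Sylow p G) :
    Cfsg.pPrimeCore p G ⊔
      Subgroup.normalizer ((zUpper (S : Subgroup G) : Subgroup G) : Set G) = ⊤ := by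
  have hOc : (Nat.card (Cfsg.pPrimeCore p G)).Coprime p :=
    Cfsg.Agent.Lib.Helper1.pPrimeCore_coprime p
  have hOQ : Cfsg.pPrimeCore p (G ⧸ Cfsg.pPrimeCore p G) = ⊥ :=
    Cfsg.Agent.Lib.Helper6.pPrimeCore_quotient_pPrimeCore_eq_bot
  have hsurj : Function.Surjective (QuotientGroup.mk' (Cfsg.pPrimeCore p G)) :=
    QuotientGroup.mk'_surjective _
  have hoddQ : Odd (Nat.card (G ⧸ Cfsg.pPrimeCore p G)) :=
    Odd.of_dvd_nat hodd (Subgroup.card_quotient_dvd_card _)
  have hZbn := zUpper_normal hoddQ p hOQ (S.mapSurjective hsurj)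
  rw [Sylow.coe_mapSurjective] at hZbn
  obtain ⟨π, hπ⟩ : ∃ π : G →* G ⧸ Cfsg.pPrimeCore p G,
      π = QuotientGroup.mk' (Cfsg.pPrimeCore p G) := ⟨_, rfl⟩
  rw [← hπ] at hZbn
  have hker : ∀ x, π x = 1 ↔ x ∈ Cfsg.pPrimeCore p G := by
    intro x; rw [hπ]; exact QuotientGroup.eq_one_iff x
  have hinjP : ∀ R : Subgroup G, IsPGroup p R → Set.InjOn π (R : Set G) := by
    intro R hR
    rw [hπ]
    exact injOn_mk_of_pgroup' _ R hOc hR
  obtain ⟨Z, hZ⟩ : ∃ Z, Z = zUpper (S : Subgroup G) := ⟨_, rfl⟩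
  rw [← hZ]
  have hZP : Z ≤ S := hZ ▸ zUpper_le _
  have hZp : IsPGroup p Z := S.isPGroup'.to_le hZP
  have hmap : zUpper ((S : Subgroup G).map π) = Z.map π := by
    rw [hZ, zUpper_map π _ (hinjP S S.isPGroup')]
  rw [hmap] at hZbn
  obtain ⟨M, hM⟩ : ∃ M, M = (Z.map π).comap π := ⟨_, rfl⟩
  have hMn : M.Normal := by rw [hM]; infer_instance
  have hZM : Z ≤ M := by
    rw [hM]; exact Subgroup.le_comap_map π Z
  have hMle : M ≤ Cfsg.pPrimeCore p G ⊔ Z := by
    intro m hm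
    rw [hM] at hm
    obtain ⟨z, hz, hzm⟩ := Subgroup.mem_comap.mp hm
    have h1 : z⁻¹ * m ∈ Cfsg.pPrimeCore p G := by
      rw [← hker, map_mul, map_inv, hzm, inv_mul_cancel]
    have e : m = z * (z⁻¹ * m) := by group
    rw [e]
    exact Subgroup.mul_mem _ (Subgroup.mem_sup_right hz) (Subgroup.mem_sup_left h1)
  have hSyl : Cfsg.Agent.Lib.Helper18.IsSylowIn p Z M := by
    refine ⟨hZM, hZp, ?_⟩
    intro R' hR' hle hR'M
    have h1 : R'.map π ≤ Z.map π := by
      rintro _ ⟨r, hr, rfl⟩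
      have := hR'M hr
      rw [hM] at this
      exact Subgroup.mem_comap.mp this
    have h2 : Nat.card R' ≤ Nat.card Z := by
      rw [← Cfsg.Agent.Lib.Helper6.card_map_of_injOn_sub π R' (hinjP R' hR'),
        ← Cfsg.Agent.Lib.Helper6.card_map_of_injOn_sub π Z (hinjP Z hZp)]
      exact Subgroup.card_le_of_le h1
    exact (Subgroup.eq_of_le_of_card_ge hle h2).symm
  rw [eq_top_iff]
  intro g _
  have h1 := hSyl.map_conj g
  have hMg : M.map (MulAut.conj g).toMonoidHom = M :=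
    Cfsg.Agent.Lib.Helper18.map_conj_eq_of_mem_normalizer M
      (by rw [Subgroup.normalizer_eq_top_iff.mpr hMn]; trivial)
  rw [hMg] at h1
  obtain ⟨c, hc, hceq⟩ := hSyl.exists_conj_eq h1
  have h2 : c⁻¹ * g ∈ Subgroup.normalizer (Z : Set G) := by
    apply Cfsg.Agent.Lib.Helper18.mem_normalizer_of_map_conj_eq
    rw [Cfsg.Agent.Lib.Helper18.map_conj_mul, hceq, ← Cfsg.Agent.Lib.Helper18.map_conj_mul,
      inv_mul_cancel, Cfsg.Agent.Lib.Helper18.map_conj_one]
  have hc' : c ∈ Cfsg.pPrimeCore p G ⊔ Subgroup.normalizer (Z : Set G) :=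
    (sup_le_sup_left Subgroup.le_normalizer _) (hMle hc)
  have e : g = c * (c⁻¹ * g) := by group
  rw [e]
  exact Subgroup.mul_mem _ hc' (Subgroup.mem_sup_right h2)


end Cfsg.Agent.Lib.Helper12.Puig
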