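import Mathlib
import Cfsg.Prelude.Def_Local
import Cfsg.Prelude.Def_OddOrderLocal
import Cfsg.Agent.Lib.Helper12.NarrowFit2
import Cfsg.Agent.Lib.Helper12.PLen1
import Cfsg.Agent.Lib.Helper12.Puig2
import Cfsg.Agent.Lib.Helper11.PConstrained
import Cfsg.Agent.Lib.Helper28.SylowAux

/-!
Helper lemmas (helper12): solvable groups of odd order and `p`-length one with a narrow Sylow
`p`-subgroup of rank at least three: the derived subgroup is a `p`-group modulo `O_{p'}` and the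
primes dividing the index of `O_{p'}` are at most `p`.
-/

set_option autoImplicit false
set_option linter.style.haveILetI false

namespace Cfsg.Agent.Lib.Helper12.NarrowSolv

open scoped commutatorElement
open Cfsg.Agent.Lib.Helper12

/-- the rank bound is invariant under isomorphism -/
theorem prank_equiv {X Y : Type*} [Group X] [Group Y] (p k : ℕ) (e : X ≃* Y)
    (h : Cfsg.PRankLE p k X) : Cfsg.PRankLE p k Y := by
  intro A hAc hAp
  have h1 := h (A.map e.symm.toMonoidHom) inferInstance (by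
    rintro _ ⟨a, ha, rfl⟩
    change (e.symm a) ^ p = 1
    rw [← map_pow, hAp a ha, map_one])
  rwa [Subgroup.card_map_of_injective e.symm.injective] at h1

/-- pulling the rank bound back along an injective homomorphism -/
theorem prank_pullback {S Γ : Type*} [Group S] [Group Γ] (p k : ℕ) (φ : S →* Γ)
    (hφ : Function.Injective φ) (H : Subgroup S) (M : Subgroup Γ) (hM : M ≤ φ.range)
    (hMH : ∀ s : S, φ s ∈ M → s ∈ H) (h : Cfsg.PRankLE p k ↥H) : Cfsg.PRankLE p k ↥M := by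
  intro A hAc hAp
  obtain ⟨B, hB⟩ : ∃ B : Subgroup S, B = (A.map M.subtype).comap φ := ⟨_, rfl⟩
  have hBmem : ∀ s : S, s ∈ B ↔ ∃ a ∈ A, (a : Γ) = φ s := by
    intro s
    rw [hB, Subgroup.mem_comap, Subgroup.mem_map]
    constructor
    · rintro ⟨a, ha, hax⟩
      exact ⟨a, ha, hax⟩
    · rintro ⟨a, ha, hax⟩
      exact ⟨a, ha, hax⟩
  have hBH : B ≤ H := by
    intro s hs
    obtain ⟨a, ha, hax⟩ := (hBmem s).mp hs
    exact hMH s (hax ▸ a.2)
  have hBc : ∀ s ∈ B, ∀ t ∈ B, s * t = t * s := by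
    intro s hs t ht
    obtain ⟨a, ha, hax⟩ := (hBmem s).mp hs
    obtain ⟨b, hb, hbx⟩ := (hBmem t).mp ht
    apply hφ
    rw [map_mul, map_mul, ← hax, ← hbx]
    exact congrArg Subtype.val (congrArg Subtype.val (hAc.is_comm.comm (⟨a, ha⟩ : A) ⟨b, hb⟩))
  have hBp : ∀ s ∈ B, s ^ p = 1 := by
    intro s hs
    obtain ⟨a, ha, hax⟩ := (hBmem s).mp hs
    apply hφ
    rw [map_pow, ← hax, map_one, ← Subgroup.coe_pow, hAp a ha, Subgroup.coe_one]
  have hcard : Nat.card B = Nat.card A := by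
    have h1 : B.map φ = A.map M.subtype := by
      rw [hB]
      exact Subgroup.map_comap_eq_self ((Subgroup.map_subtype_le A).trans hM)
    rw [← Subgroup.card_map_of_injective hφ, h1,
      Subgroup.card_map_of_injective M.subtype_injective]
  have h2 := h (B.subgroupOf H)
    ⟨⟨fun a b => Subtype.ext (Subtype.ext (hBc a.1.1 a.2 b.1.1 b.2))⟩⟩ (by
      intro x hx
      apply Subtype.ext
      rw [Subgroup.coe_pow, Subgroup.coe_one]
      exact hBp x.1 (Subgroup.mem_subgroupOf.mp hx))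
  rw [Nat.card_congr (Subgroup.subgroupOfEquivOfLe hBH).toEquiv, hcard] at h2
  exact h2

/-- elements of the join of two elementwise commuting subgroups are products -/
theorem mem_sup_of_comm {S : Type*} [Group S] (R₀ R₁ : Subgroup S)
    (hc : ∀ a ∈ R₀, ∀ b ∈ R₁, a * b = b * a) (s : S) (hs : s ∈ R₀ ⊔ R₁) :
    ∃ y ∈ R₀, ∃ z ∈ R₁, y * z = s := by
  obtain ⟨D, hD⟩ : ∃ D : Subgroup S, ∀ s : S, s ∈ D ↔ ∃ y ∈ R₀, ∃ z ∈ R₁, y * z = s :=
    ⟨{ carrier := {s | ∃ y ∈ R₀, ∃ z ∈ R₁, y * z = s}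
       mul_mem' := by
         rintro _ _ ⟨y, hy, z, hz, rfl⟩ ⟨y', hy', z', hz', rfl⟩
         refine ⟨y * y', R₀.mul_mem hy hy', z * z', R₁.mul_mem hz hz', ?_⟩
         calc y * y' * (z * z') = y * (y' * z) * z' := by group
           _ = y * (z * y') * z' := by rw [hc y' hy' z hz]
           _ = y * z * (y' * z') := by group
       one_mem' := ⟨1, R₀.one_mem, 1, R₁.one_mem, mul_one 1⟩
       inv_mem' := by
         rintro _ ⟨y, hy, z, hz, rfl⟩
         refine ⟨y⁻¹, R₀.inv_mem hy, z⁻¹, R₁.inv_mem hz, ?_⟩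
         rw [hc y⁻¹ (R₀.inv_mem hy) z⁻¹ (R₁.inv_mem hz), mul_inv_rev] }, fun s => Iff.rfl⟩
  have hle : R₀ ⊔ R₁ ≤ D := by
    apply sup_le
    · intro y hy
      exact (hD y).mpr ⟨y, hy, 1, R₁.one_mem, mul_one y⟩
    · intro z hz
      exact (hD z).mpr ⟨1, R₀.one_mem, z, hz, one_mul z⟩
  exact (hD s).mp (hle hs)

/-- the centralizer `R₀ × R₁` of a narrow group has rank at most two -/
theorem narrow_cent_rank {S : Type*} [Group S] [Finite S] (p : ℕ) [Fact p.Prime]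
    (R₀ R₁ : Subgroup S) (h0 : Nat.card R₀ = p) (h1 : IsCyclic R₁)
    (hc : ∀ a ∈ R₀, ∀ b ∈ R₁, a * b = b * a)
    (hC : R₀ ⊔ R₁ = Subgroup.centralizer (R₀ : Set S)) :
    Cfsg.PRankLE p 2 ↥(Subgroup.centralizer (R₀ : Set S)) := by
  classical
  have hpp : p.Prime := Fact.out
  intro A hAc hAp
  have hex : ∀ a : ↥A, ∃ r : ↥R₀ × {b : ↥R₁ // b ^ p = 1},
      ((a : ↥(Subgroup.centralizer (R₀ : Set S))) : S) = (r.1 : S) * ((r.2 : ↥R₁) : S) := by
    intro a
    have ha : ((a : ↥(Subgroup.centralizer (R₀ : Set S))) : S) ∈ R₀ ⊔ R₁ := by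
      rw [hC]
      exact a.1.2
    obtain ⟨y, hy, z, hz, hyz⟩ := mem_sup_of_comm R₀ R₁ hc _ ha
    have hyp : y ^ p = 1 := by
      have h2 : (⟨y, hy⟩ : ↥R₀) ^ Nat.card ↥R₀ = 1 := pow_card_eq_one'
      rw [h0] at h2
      exact congrArg Subtype.val h2
    have hzp : z ^ p = 1 := by
      have hap : ((a : ↥(Subgroup.centralizer (R₀ : Set S))) : S) ^ p = 1 := by
        have h2 := hAp a.1 a.2
        exact congrArg Subtype.val h2
      rw [← hyz, (show Commute y z from hc y hy z hz).mul_pow, hyp, one_mul] at hap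
      exact hap
    exact ⟨(⟨y, hy⟩, ⟨⟨z, hz⟩, Subtype.ext hzp⟩), hyz.symm⟩
  choose g hg using hex
  have hinj : Function.Injective g := by
    intro a b hab
    apply Subtype.ext
    apply Subtype.ext
    rw [hg a, hg b, hab]
  have h2 := Nat.card_le_card_of_injective g hinj
  rw [Nat.card_prod, h0] at h2
  have h3 : Nat.card {b : ↥R₁ // b ^ p = 1} ≤ p := by
    haveI := Fintype.ofFinite ↥R₁
    rw [Nat.card_eq_fintype_card, Fintype.card_subtype]
    exact IsCyclic.card_pow_eq_one_le hpp.pos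
  calc Nat.card A ≤ p * Nat.card {b : ↥R₁ // b ^ p = 1} := h2
    _ ≤ p * p := Nat.mul_le_mul_left p h3
    _ = p ^ 2 := (sq p).symm

/-- the rank of a group is the rank of a Sylow subgroup -/
theorem prank_of_sylow {G : Type*} [Group G] [Finite G] (p k : ℕ) [Fact p.Prime] (S : Sylow p G)
    (h : Cfsg.PRankLE p k ↥(S : Subgroup G)) : Cfsg.PRankLE p k G := by
  intro A hAc hAp
  have hA : IsPGroup p A := by
    intro a
    refine ⟨1, Subtype.ext ?_⟩
    rw [pow_one, Subgroup.coe_pow, Subgroup.coe_one]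
    exact hAp a a.2
  obtain ⟨g, hg⟩ := Cfsg.Agent.Lib.Helper28.exists_conj_le_sylow S A hA
  have hle : A.map (MulAut.conj g).toMonoidHom ≤ (S : Subgroup G) := by
    rintro _ ⟨a, ha, rfl⟩
    exact hg a ha
  have h1 := h ((A.map (MulAut.conj g).toMonoidHom).subgroupOf (S : Subgroup G)) inferInstance (by
    intro x hx
    rw [Subgroup.mem_subgroupOf] at hx
    obtain ⟨a, ha, hax⟩ := hx
    apply Subtype.ext
    rw [Subgroup.coe_pow, ← hax, Subgroup.coe_one]
    change (MulAut.conj g a) ^ p = 1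
    rw [← map_pow, hAp a ha, map_one])
  rw [Nat.card_congr (Subgroup.subgroupOfEquivOfLe hle).toEquiv,
    Subgroup.card_map_of_injective (MulAut.conj g).injective] at h1
  exact h1

set_option maxHeartbeats 1600000 in
/-- Solvable groups of odd order and `p`-length one with a narrow Sylow `p`-subgroup of rank at
least three. -/
theorem narrow_solv {G : Type*} [Group G] [Finite G] [Group.IsSolvable G] (p : ℕ)
    [Fact p.Prime] (hp2 : p ≠ 2) (S : Sylow p G) (hS : Cfsg.IsNarrow p ↥(S : Subgroup G))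
    (hrk : ¬ Cfsg.PRankLE p 2 ↥(S : Subgroup G)) (hpl : Cfsg.PLengthLE p 1 G) :
    IsPGroup p ↥(commutator (G ⧸ Cfsg.pPrimeCore p G)) ∧
      ∀ q : ℕ, q.Prime → q ∣ (Cfsg.pPrimeCore p G).index → q ≤ p := by
  classical
  have hpp : p.Prime := Fact.out
  have hK := Cfsg.Agent.Lib.Helper1.pPrimeCore_coprime (G := G) p
  have hO := Cfsg.Agent.Lib.Helper11.pPrimeCore_quotient_eq_bot (X := G) p
  have hC := Cfsg.Agent.Lib.Helper1.centralizer_pCore_le p hO
  haveI hPn : (Cfsg.pCore p (G ⧸ Cfsg.pPrimeCore p G)).Normal := Cfsg.Agent.Lib.Helper1.pCore_normal p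
  have hPp : IsPGroup p ↥(Cfsg.pCore p (G ⧸ Cfsg.pPrimeCore p G)) := Cfsg.Agent.Lib.Helper1.pCore_isPGroup p
  obtain ⟨φ, hφdef⟩ : ∃ φ : ↥(S : Subgroup G) →* G ⧸ Cfsg.pPrimeCore p G,
      φ = (QuotientGroup.mk' (Cfsg.pPrimeCore p G)).comp (S : Subgroup G).subtype := ⟨_, rfl⟩
  have hφapp : ∀ s : ↥(S : Subgroup G), φ s = QuotientGroup.mk' (Cfsg.pPrimeCore p G) (s : G) := by
    intro s
    rw [hφdef]
    rfl
  have hφinj : Function.Injective φ := by
    intro a b hab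
    rw [hφapp, hφapp] at hab
    exact Subtype.ext (Puig.injOn_mk_of_pgroup' (Cfsg.pPrimeCore p G) (S : Subgroup G) hK S.2 a.2 b.2 hab)
  have hrange : φ.range = Cfsg.pCore p (G ⧸ Cfsg.pPrimeCore p G) := by
    obtain ⟨V, W, hVn, hWn, hVW, hVc, hWp, hWi⟩ := plen1_struct hpl
    haveI := hVn
    haveI := hWn
    have hVK : V ≤ Cfsg.pPrimeCore p G := Cfsg.Agent.Lib.Helper1.le_pPrimeCore p hVn hVc
    have hSW : (S : Subgroup G) ≤ W := pgroup_le_of_index_coprime hWi S S.2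
    have hWbar : W.map (QuotientGroup.mk' (Cfsg.pPrimeCore p G)) ≤ Cfsg.pCore p (G ⧸ Cfsg.pPrimeCore p G) := by
      apply Cfsg.Agent.Lib.Helper1.le_pCore p
        (Subgroup.Normal.map hWn _ (QuotientGroup.mk'_surjective _))
      rintro ⟨_, w, hw, rfl⟩
      obtain ⟨k, hk⟩ := hWp w hw
      refine ⟨k, Subtype.ext ?_⟩
      change (QuotientGroup.mk' (Cfsg.pPrimeCore p G) w) ^ p ^ k = 1
      rw [← map_pow]
      exact (QuotientGroup.eq_one_iff _).mpr (hVK hk)
    have hle : φ.range ≤ Cfsg.pCore p (G ⧸ Cfsg.pPrimeCore p G) := by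
      rintro _ ⟨s, rfl⟩
      rw [hφapp]
      exact hWbar ⟨s, hSW s.2, rfl⟩
    apply Subgroup.eq_of_le_of_card_ge hle
    have hcr : Nat.card ↥φ.range = Nat.card ↥(S : Subgroup G) :=
      (Nat.card_congr (MonoidHom.ofInjective hφinj).toEquiv).symm
    rw [hcr]
    obtain ⟨a, ha⟩ := IsPGroup.iff_card.mp hPp
    rw [ha]
    have hdvd : p ^ a ∣ Nat.card G := by
      rw [← ha]
      exact (Subgroup.card_subgroup_dvd_card _).trans (Subgroup.card_quotient_dvd_card _)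
    rw [Sylow.card_eq_multiplicity]
    exact Nat.pow_le_pow_right hpp.pos
      ((hpp.pow_dvd_iff_le_factorization (Nat.card_pos.ne')).mp hdvd)
  obtain ⟨R₀, R₁, h0, h1, -, hc, hCen⟩ : ∃ R₀ R₁ : Subgroup ↥(S : Subgroup G),
      Nat.card R₀ = p ∧ IsCyclic R₁ ∧ R₀ ⊓ R₁ = ⊥ ∧
      (∀ a ∈ R₀, ∀ b ∈ R₁, a * b = b * a) ∧
      R₀ ⊔ R₁ = Subgroup.centralizer (R₀ : Set ↥(S : Subgroup G)) := by
    rcases hS with h | h
    · exact absurd h hrk
    · exact h
  have hrkC := narrow_cent_rank p R₀ R₁ h0 h1 hc hCen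
  obtain ⟨E, hEdef⟩ : ∃ E : Subgroup (G ⧸ Cfsg.pPrimeCore p G), E = R₀.map φ := ⟨_, rfl⟩
  have hEP : E ≤ Cfsg.pCore p (G ⧸ Cfsg.pPrimeCore p G) := by
    rw [hEdef, ← hrange]
    rintro _ ⟨r, -, rfl⟩
    exact ⟨r, rfl⟩
  have hEe : Cfsg.IsElementaryAbelian p E := by
    haveI : IsCyclic ↥R₀ := isCyclic_of_prime_card h0
    have hR₀c : ∀ a ∈ R₀, ∀ b ∈ R₀, a * b = b * a := by
      intro a ha b hb
      have h2 := (IsCyclic.commGroup (α := ↥R₀)).mul_comm ⟨a, ha⟩ ⟨b, hb⟩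
      exact congrArg Subtype.val h2
    have h3 := Cfsg.Agent.Lib.Helper12.elemAb_closure p (E : Set (G ⧸ Cfsg.pPrimeCore p G)) (by
      intro a ha b hb
      rw [hEdef] at ha hb
      obtain ⟨r, hr, rfl⟩ := ha
      obtain ⟨r', hr', rfl⟩ := hb
      rw [← map_mul, ← map_mul, hR₀c r hr r' hr']) (by
      intro a ha
      rw [hEdef] at ha
      obtain ⟨r, hr, rfl⟩ := ha
      have h2 : (⟨r, hr⟩ : ↥R₀) ^ Nat.card ↥R₀ = 1 := pow_card_eq_one'
      rw [h0] at h2
      have h4 : r ^ p = 1 := congrArg Subtype.val h2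
      rw [← map_pow, h4, map_one])
    rwa [Subgroup.closure_eq] at h3
  have hr : Cfsg.PRankLE p 2 ↥(Cfsg.pCore p (G ⧸ Cfsg.pPrimeCore p G) ⊓ Subgroup.centralizer (E : Set (G ⧸ Cfsg.pPrimeCore p G))) := by
    apply prank_pullback p 2 φ hφinj (Subgroup.centralizer (R₀ : Set ↥(S : Subgroup G))) _
      (by rw [← hrange]; exact inf_le_left) ?_ hrkC
    intro s hs
    have hs2 := (Subgroup.mem_inf.mp hs).2
    rw [Subgroup.mem_centralizer_iff] at hs2 ⊢
    intro r hr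
    apply hφinj
    rw [map_mul, map_mul]
    exact hs2 (φ r) (by rw [hEdef]; exact ⟨r, hr, rfl⟩)
  have hrkP : ¬ Cfsg.PRankLE p 2 ↥(Cfsg.pCore p (G ⧸ Cfsg.pPrimeCore p G)) := by
    intro h
    apply hrk
    rw [← hrange] at h
    exact prank_equiv p 2 (MonoidHom.ofInjective hφinj).symm h
  have hcore_p' : ∀ x : G ⧸ Cfsg.pPrimeCore p G, x ∈ Cfsg.pCore p (G ⧸ Cfsg.pPrimeCore p G) → (orderOf x).Coprime p → x = 1 := by
    intro x hx hcop
    obtain ⟨k, hk⟩ := hPp ⟨x, hx⟩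
    have hk' : x ^ p ^ k = 1 := congrArg Subtype.val hk
    exact orderOf_eq_one_iff.mp (Nat.eq_one_of_dvd_coprimes (Nat.Coprime.pow_right k hcop)
      dvd_rfl (orderOf_dvd_of_pow_eq_one hk'))
  constructor
  · rintro ⟨x, hx⟩
    obtain ⟨a, m, hm, hxm⟩ := Nat.exists_eq_pow_mul_and_not_dvd (orderOf_pos x).ne' p hpp.ne_one
    refine ⟨a, Subtype.ext ?_⟩
    rw [Subgroup.coe_pow, Subgroup.coe_one]
    have hg : x ^ p ^ a ∈ commutator (G ⧸ Cfsg.pPrimeCore p G) := Subgroup.pow_mem _ hx _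
    have hgo : (orderOf (x ^ p ^ a)).Coprime p := by
      have hd : orderOf (x ^ p ^ a) ∣ m := by
        apply orderOf_dvd_of_pow_eq_one
        rw [← pow_mul, ← hxm]
        exact pow_orderOf_eq_one x
      exact Nat.Coprime.coprime_dvd_left hd ((Nat.Prime.coprime_iff_not_dvd hpp).mpr hm).symm
    have hcen : x ^ p ^ a ∈ Subgroup.centralizer ((Cfsg.pCore p (G ⧸ Cfsg.pPrimeCore p G) : Subgroup (G ⧸ Cfsg.pPrimeCore p G)) : Set (G ⧸ Cfsg.pPrimeCore p G)) := by
      rw [Subgroup.mem_centralizer_iff]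
      intro y hy
      exact (NarrowFit.narrow_case p hp2 (Cfsg.pCore p (G ⧸ Cfsg.pPrimeCore p G)) hPp E hEP hEe hr hrkP (x ^ p ^ a) hg hgo y
        hy).symm
    exact hcore_p' _ (hC hcen) hgo
  · intro q hq hdvd
    by_cases hqp : q = p
    · exact hqp.le
    rw [Subgroup.index_eq_card] at hdvd
    haveI : Fact q.Prime := ⟨hq⟩
    obtain ⟨g, hg⟩ := exists_prime_orderOf_dvd_card' q hdvd
    have hgo : (orderOf g).Coprime p := by
      rw [hg]
      exact (Nat.coprime_primes hq hpp).mpr hqp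
    have hcen : g ^ (p - 1) ∈
        Subgroup.centralizer ((Cfsg.pCore p (G ⧸ Cfsg.pPrimeCore p G) : Subgroup (G ⧸ Cfsg.pPrimeCore p G)) : Set (G ⧸ Cfsg.pPrimeCore p G)) := by
      rw [Subgroup.mem_centralizer_iff]
      intro y hy
      exact (NarrowFit2.narrow_case_pow p hp2 (Cfsg.pCore p (G ⧸ Cfsg.pPrimeCore p G)) hPp E hEP hEe hr hrkP g hgo y hy).symm
    have h1 : g ^ (p - 1) = 1 := hcore_p' _ (hC hcen)
      (Nat.Coprime.coprime_dvd_left (orderOf_pow_dvd (p - 1)) hgo)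
    have h2 : q ∣ p - 1 := by
      rw [← hg]
      exact orderOf_dvd_of_pow_eq_one h1
    have h3 := Nat.le_of_dvd (by have := hpp.two_le; omega) h2
    omega

end Cfsg.Agent.Lib.Helper12.NarrowSolv
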