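import Mathlib

/-!
Derived length of `p`-subgroups of a finite symmetric group: upper bound.

* `PermDL.derivedSeries_succ_le_map` : if `commutator Q ≤ M` then
  `derivedSeries Q (a+1) ≤ (derivedSeries M a).map M.subtype`.
* `PermDL.derivedSeries_le_of_index_le` : in a finite `p`-group `Q`, a subgroup `H` of index at
  most `p ^ a` contains `derivedSeries Q a`.
* `PermDL.derivedSeries_log_eq_bot` : a `p`-subgroup `P` of `Equiv.Perm (Fin n)` has
  `derivedSeries P (Nat.log p n) = ⊥`.
* `PermDL.sylow_derivedSeries_log_eq_bot` : the same for a Sylow `p`-subgroup.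
-/

namespace Cfsg.Agent.Lib.Helper12.PermDL

universe u

theorem derivedSeries_succ_le_map {Q : Type u} [Group Q] (M : Subgroup Q)
    (hM : commutator Q ≤ M) (a : ℕ) :
    derivedSeries Q (a + 1) ≤ (derivedSeries M a).map M.subtype := by
  induction a with
  | zero =>
    intro g hg
    rw [zero_add, derivedSeries_one] at hg
    refine ⟨⟨g, hM hg⟩, ?_, rfl⟩
    rw [derivedSeries_zero]
    exact Subgroup.mem_top _
  | succ a ih =>
    rw [derivedSeries_succ, derivedSeries_succ (G := M), Subgroup.map_commutator]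
    exact Subgroup.commutator_mono ih ih

theorem exists_normal_index_p {Q : Type u} [Group Q] [Finite Q] (p : ℕ) [hp : Fact p.Prime]
    (hQ : IsPGroup p Q) (H : Subgroup Q) (hH : H ≠ ⊤) :
    ∃ M : Subgroup Q, M.Normal ∧ M.index = p ∧ H ≤ M ∧ commutator Q ≤ M := by
  obtain ⟨N, hN⟩ := IsPGroup.iff_card.mp hQ
  obtain ⟨k, hk⟩ := IsPGroup.iff_card.mp (hQ.to_subgroup H)
  have hkN : k < N := by
    by_contra hcon
    replace hcon : N ≤ k := not_lt.mp hcon
    have h1 : Nat.card H ≤ Nat.card Q := Subgroup.card_le_card_group H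
    have h2 : p ^ N ≤ p ^ k := Nat.pow_le_pow_right hp.out.pos hcon
    have h3 : Nat.card H = Nat.card Q := by rw [hk, hN] at *; omega
    exact hH ((Subgroup.card_eq_iff_eq_top H).mp h3)
  obtain ⟨M, hMc, hHM⟩ := Sylow.exists_subgroup_card_pow_prime_le (G := Q) p (n := k) (m := N - 1)
    (by rw [hN]; exact pow_dvd_pow p (Nat.sub_le N 1)) H hk (by omega)
  have hMi : M.index = p := by
    have h1 := Subgroup.card_mul_index M
    rw [hMc, hN] at h1
    have h2 : p ^ N = p ^ (N - 1) * p := by
      rw [← pow_succ]; congr 1; omega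
    rw [h2] at h1
    exact Nat.eq_of_mul_eq_mul_left (pow_pos hp.out.pos _) h1
  have hMn : M.Normal := by
    apply Subgroup.normal_of_index_eq_minFac_card
    rw [hMi, hN, Nat.Prime.pow_minFac hp.out (by omega)]
  refine ⟨M, hMn, hMi, hHM, ?_⟩
  have hcard : Nat.card (Q ⧸ M) = p := by rw [← Subgroup.index_eq_card]; exact hMi
  have hcyc : IsCyclic (Q ⧸ M) := isCyclic_of_prime_card (p := p) hcard
  let _ : CommGroup (Q ⧸ M) := hcyc.commGroup
  have h := Abelianization.commutator_subset_ker (QuotientGroup.mk' M)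
  rwa [QuotientGroup.ker_mk'] at h

theorem derivedSeries_le_of_index_le (p : ℕ) [hp : Fact p.Prime] (a : ℕ) :
    ∀ (Q : Type u) [Group Q] [Finite Q], IsPGroup p Q → ∀ H : Subgroup Q,
      H.index ≤ p ^ a → derivedSeries Q a ≤ H := by
  induction a with
  | zero =>
    intro Q _ _ hQ H hH
    have h1 : H.index = 1 := by
      have : H.index ≠ 0 := Subgroup.index_ne_zero_of_finite
      rw [pow_zero] at hH
      omega
    rw [Subgroup.index_eq_one.mp h1]
    exact le_top
  | succ a ih =>
    intro Q _ _ hQ H hH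
    by_cases hHt : H = ⊤
    · rw [hHt]; exact le_top
    obtain ⟨M, hMn, hMi, hHM, hcomm⟩ := exists_normal_index_p p hQ H hHt
    have h1 := derivedSeries_succ_le_map M hcomm a
    have h2 : (H.subgroupOf M).index ≤ p ^ a := by
      have h3 := Subgroup.relIndex_mul_index hHM
      rw [hMi] at h3
      have h4 : H.relIndex M * p ≤ p ^ a * p := by
        rw [h3, ← pow_succ]; exact hH
      exact Nat.le_of_mul_le_mul_right h4 hp.out.pos
    have h5 := ih M (hQ.to_subgroup M) (H.subgroupOf M) h2
    intro g hg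
    obtain ⟨m, hm, rfl⟩ := h1 hg
    exact h5 hm

theorem derivedSeries_log_eq_bot (p : ℕ) [hp : Fact p.Prime] (n : ℕ)
    (P : Subgroup (Equiv.Perm (Fin n))) (hP : IsPGroup p P) :
    derivedSeries ↥P (Nat.log p n) = ⊥ := by
  rw [eq_bot_iff]
  intro g hg
  have key : ∀ i : Fin n, g • i = i := by
    intro i
    have hidx : (MulAction.stabilizer P i).index ≤ p ^ Nat.log p n := by
      obtain ⟨b, hb⟩ := hQidx hP (MulAction.stabilizer P i)
      have h1 : (MulAction.stabilizer P i).index ≤ n := by
        rw [MulAction.index_stabilizer]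
        have := Set.ncard_le_card (MulAction.orbit P i)
        simpa using this
      rw [hb] at h1 ⊢
      exact Nat.pow_le_pow_right hp.out.pos (Nat.le_log_of_pow_le hp.out.one_lt h1)
    have := derivedSeries_le_of_index_le p (Nat.log p n) P hP (MulAction.stabilizer P i) hidx hg
    exact this
  rw [Subgroup.mem_bot]
  apply Subtype.ext
  apply Equiv.ext
  intro i
  exact key i
where
  hQidx {Q : Type} [Group Q] [Finite Q] (hQ : IsPGroup p Q) (H : Subgroup Q) :
      ∃ b : ℕ, H.index = p ^ b := hQ.index H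

theorem sylow_derivedSeries_log_eq_bot (p : ℕ) [Fact p.Prime] (n : ℕ)
    (P : Sylow p (Equiv.Perm (Fin n))) :
    derivedSeries ↥(P : Subgroup (Equiv.Perm (Fin n))) (Nat.log p n) = ⊥ :=
  derivedSeries_log_eq_bot p n (P : Subgroup (Equiv.Perm (Fin n))) P.isPGroup'

end Cfsg.Agent.Lib.Helper12.PermDL
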