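import Mathlib

set_option autoImplicit false
set_option linter.unusedSimpArgs false

/-!
A ring-theoretic lemma: two square-zero elements `N`, `M` of a ring such that `N * M + M * N`
is invertible give a system of `2 × 2` matrix units; the multiplicative monoid generated by
`1 + N` and `1 + M` consists of images of matrices of determinant one, and an element of it
commuting with `N` and `M` squares to one.
-/

namespace Cfsg.Agent.Lib.Helper12

section QuadMat

variable {E : Type*} [Ring E]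

/-- the map from `2 × 2` matrices attached to a system of matrix units -/
def phiMat {k : Type*} [CommRing k] (ι : k →+* E) (e : Fin 2 → Fin 2 → E)
    (A : Matrix (Fin 2) (Fin 2) k) : E :=
  ∑ i, ∑ j, ι (A i j) * e i j

theorem phiMat_mul {k : Type*} [CommRing k] (ι : k →+* E) (e : Fin 2 → Fin 2 → E)
    (hc : ∀ c i j, ι c * e i j = e i j * ι c)
    (hrel : ∀ i j i' j', e i j * e i' j' = if j = i' then e i j' else 0)
    (A B : Matrix (Fin 2) (Fin 2) k) :
    phiMat ι e (A * B) = phiMat ι e A * phiMat ι e B := by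
  have h4 : ∀ (a b : k) (i j i' j' : Fin 2),
      ι a * e i j * (ι b * e i' j') = if j = i' then ι a * ι b * e i j' else 0 := by
    intro a b i j i' j'
    have h : ι a * e i j * (ι b * e i' j') = ι a * ι b * (e i j * e i' j') := by
      rw [mul_assoc, ← mul_assoc (e i j), ← hc b i j, mul_assoc (ι b), ← mul_assoc]
    rw [h, hrel]
    split_ifs <;> simp
  unfold phiMat
  simp only [Fin.sum_univ_two, Matrix.mul_apply, map_add, map_mul, add_mul, mul_add, h4]
  simp
  abel

theorem phiMat_coeff {k : Type*} [CommRing k] (ι : k →+* E) (e : Fin 2 → Fin 2 → E)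
    (hc : ∀ c i j, ι c * e i j = e i j * ι c)
    (hrel : ∀ i j i' j', e i j * e i' j' = if j = i' then e i j' else 0)
    (hsum : e 0 0 + e 1 1 = 1)
    (B : Matrix (Fin 2) (Fin 2) k) (i j : Fin 2) :
    e 0 i * phiMat ι e B * e j 0 + e 1 i * phiMat ι e B * e j 1 = ι (B i j) := by
  have h6 : ∀ (b : k) (l i a b' j l' : Fin 2),
      e l i * (ι b * e a b') * e j l' =
        if i = a then (if b' = j then ι b * e l l' else 0) else 0 := by
    intro b l i a b' j l'
    have h : e l i * (ι b * e a b') * e j l' = ι b * (e l i * e a b' * e j l') := by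
      rw [← mul_assoc, ← hc b l i, mul_assoc (ι b), mul_assoc (ι b)]
    rw [h, hrel]
    split_ifs with h1 h2
    · rw [hrel, if_pos h2]
    · rw [hrel, if_neg h2, mul_zero]
    · rw [zero_mul, mul_zero]
  have h7 : ι (B i j) = ι (B i j) * (e 0 0 + e 1 1) := by rw [hsum, mul_one]
  rw [h7]
  unfold phiMat
  simp only [Fin.sum_univ_two, mul_add, add_mul, h6]
  fin_cases i <;> fin_cases j <;> simp

/-- the matrix units attached to a pair of square-zero elements -/
def quadUnits (N M Δ : E) : Fin 2 → Fin 2 → E :=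
  fun i j => if i = 0 then (if j = 0 then Δ * N * M else N)
    else (if j = 0 then Δ * M else Δ * M * N)

theorem aeval_commute_int (Γ z : E) (h : Commute Γ z) (c : Polynomial ℤ) :
    Commute (Polynomial.aeval Γ c) z := by
  induction c using Polynomial.induction_on' with
  | add p q hp hq => rw [map_add]; exact hp.add_left hq
  | monomial n a =>
    rw [Polynomial.aeval_monomial]
    exact (Algebra.commute_algebraMap_left a z).mul_left (h.pow_left n)

theorem quad_mat_main (N M Δ : E) (hNN : N * N = 0) (hMM : M * M = 0)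
    (hΔ1 : (N * M + M * N) * Δ = 1) (hΔ2 : Δ * (N * M + M * N) = 1) :
    ∃ S : Submonoid E, 1 + N ∈ S ∧ 1 + M ∈ S ∧
      ∀ g ∈ S, g * N = N * g → g * M = M * g → g * g = 1 := by
  obtain ⟨Γ, hΓ⟩ : ∃ Γ : E, N * M + M * N = Γ := ⟨_, rfl⟩
  rw [hΓ] at hΔ1 hΔ2
  have e1 : Γ * N = N * (M * N) := by
    rw [← hΓ, add_mul, mul_assoc M N N, hNN, mul_zero, add_zero, mul_assoc]
  have e2 : N * Γ = N * (M * N) := by
    rw [← hΓ, mul_add, ← mul_assoc N N M, hNN, zero_mul, zero_add]
  have e3 : Γ * M = M * (N * M) := by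
    rw [← hΓ, add_mul, mul_assoc N M M, hMM, mul_zero, zero_add, mul_assoc]
  have e4 : M * Γ = M * (N * M) := by
    rw [← hΓ, mul_add, ← mul_assoc M M N, hMM, zero_mul, add_zero]
  have hNΓ : N * Γ = Γ * N := by rw [e1, e2]
  have hMΓ : M * Γ = Γ * M := by rw [e3, e4]
  have hNΔ : N * Δ = Δ * N := by
    calc N * Δ = (Δ * Γ) * (N * Δ) := by rw [hΔ2, one_mul]
      _ = Δ * ((Γ * N) * Δ) := by simp only [mul_assoc]
      _ = Δ * ((N * Γ) * Δ) := by rw [hNΓ]
      _ = Δ * N * (Γ * Δ) := by simp only [mul_assoc]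
      _ = Δ * N := by rw [hΔ1, mul_one]
  have hMΔ : M * Δ = Δ * M := by
    calc M * Δ = (Δ * Γ) * (M * Δ) := by rw [hΔ2, one_mul]
      _ = Δ * ((Γ * M) * Δ) := by simp only [mul_assoc]
      _ = Δ * ((M * Γ) * Δ) := by rw [hMΓ]
      _ = Δ * M * (Γ * Δ) := by simp only [mul_assoc]
      _ = Δ * M := by rw [hΔ1, mul_one]
  have r1' : ∀ z, N * (N * z) = 0 := fun z => by rw [← mul_assoc, hNN, zero_mul]
  have r2' : ∀ z, M * (M * z) = 0 := fun z => by rw [← mul_assoc, hMM, zero_mul]
  have r3' : ∀ z, N * (Δ * z) = Δ * (N * z) := fun z => by rw [← mul_assoc, hNΔ, mul_assoc]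
  have r4' : ∀ z, M * (Δ * z) = Δ * (M * z) := fun z => by rw [← mul_assoc, hMΔ, mul_assoc]
  have r5 : N * (M * N) = Γ * N := e1.symm
  have r5' : ∀ z, N * (M * (N * z)) = Γ * (N * z) := fun z => by
    rw [← mul_assoc M, ← mul_assoc N, r5, mul_assoc]
  have r6 : M * (N * M) = Γ * M := e3.symm
  have r6' : ∀ z, M * (N * (M * z)) = Γ * (M * z) := fun z => by
    rw [← mul_assoc N, ← mul_assoc M, r6, mul_assoc]
  have r7' : ∀ z, Δ * (Γ * z) = z := fun z => by rw [← mul_assoc, hΔ2, one_mul]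
  have r8' : ∀ z, M * (Γ * z) = Γ * (M * z) := fun z => by rw [← mul_assoc, hMΓ, mul_assoc]
  have r9' : ∀ z, N * (Γ * z) = Γ * (N * z) := fun z => by rw [← mul_assoc, hNΓ, mul_assoc]
  have r10' : ∀ z, Γ * (Δ * z) = z := fun z => by rw [← mul_assoc, hΔ1, one_mul]
  have hrel : ∀ i j i' j' : Fin 2, quadUnits N M Δ i j * quadUnits N M Δ i' j' =
      if j = i' then quadUnits N M Δ i j' else 0 := by
    intro i j i' j'
    fin_cases i <;> fin_cases j <;> fin_cases i' <;> fin_cases j' <;>
      simp [quadUnits, mul_assoc, hNN, hMM, r1', r2', hNΔ, hMΔ, r3', r4', r5, r5', r6, r6',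
        hΔ2, r7', hMΓ, hNΓ, r8', r9', hΔ1, r10']
  have hsum : quadUnits N M Δ 0 0 + quadUnits N M Δ 1 1 = 1 := by
    simp only [quadUnits, if_true, one_ne_zero, if_false]
    rw [mul_assoc, mul_assoc, ← mul_add, hΓ, hΔ2]
  have he01 : quadUnits N M Δ 0 1 = N := by simp [quadUnits]
  have he10 : quadUnits N M Δ 1 0 = Δ * M := by simp [quadUnits]
  obtain ⟨ι, hι⟩ : ∃ ι : Polynomial ℤ →+* E,
      ι = ((Polynomial.aeval Γ : Polynomial ℤ →ₐ[ℤ] E) : Polynomial ℤ →+* E) := ⟨_, rfl⟩
  have hιX : ι Polynomial.X = Γ := by rw [hι]; simp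
  have hcN : ∀ c, Commute (ι c) N := by
    intro c; rw [hι]; exact aeval_commute_int Γ N hNΓ.symm c
  have hcM : ∀ c, Commute (ι c) M := by
    intro c; rw [hι]; exact aeval_commute_int Γ M hMΓ.symm c
  have hcΔ : ∀ c, Commute (ι c) Δ := by
    intro c; rw [hι]
    refine aeval_commute_int Γ Δ ?_ c
    show Γ * Δ = Δ * Γ
    rw [hΔ1, hΔ2]
  have hc : ∀ c i j, ι c * quadUnits N M Δ i j = quadUnits N M Δ i j * ι c := by
    intro c i j
    fin_cases i <;> fin_cases j
    · simpa [quadUnits] using (((hcΔ c).mul_right (hcN c)).mul_right (hcM c)).eq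
    · simpa [quadUnits] using (hcN c).eq
    · simpa [quadUnits] using ((hcΔ c).mul_right (hcM c)).eq
    · simpa [quadUnits] using (((hcΔ c).mul_right (hcM c)).mul_right (hcN c)).eq
  obtain ⟨e, he⟩ : ∃ e, e = quadUnits N M Δ := ⟨_, rfl⟩
  rw [← he] at hrel hsum he01 he10 hc
  have hone : phiMat ι e 1 = 1 := by
    unfold phiMat
    simp only [Fin.sum_univ_two, Matrix.one_apply]
    simp
    exact hsum
  refine ⟨{ carrier := {g | ∃ A : Matrix (Fin 2) (Fin 2) (Polynomial ℤ), A.det = 1 ∧
              g = phiMat ι e A}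
            one_mem' := ⟨1, Matrix.det_one, hone.symm⟩
            mul_mem' := ?_ }, ?_, ?_, ?_⟩
  · rintro a b ⟨A, hA, rfl⟩ ⟨B, hB, rfl⟩
    exact ⟨A * B, by rw [Matrix.det_mul, hA, hB, one_mul], (phiMat_mul ι e hc hrel A B).symm⟩
  · refine ⟨!![1, 1; 0, 1], by simp [Matrix.det_fin_two], ?_⟩
    unfold phiMat
    simp only [Fin.sum_univ_two]
    simp
    rw [he01, ← hsum]
    abel
  · refine ⟨!![1, 0; Polynomial.X, 1], by simp [Matrix.det_fin_two], ?_⟩
    unfold phiMat
    simp only [Fin.sum_univ_two]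
    simp
    rw [he10, hιX, r10', ← hsum]
    abel
  · rintro g ⟨A, hA, rfl⟩ hgN hgM
    have hN' : phiMat ι e !![0, 1; 0, 0] = N := by
      unfold phiMat
      simp only [Fin.sum_univ_two]
      simp
      exact he01
    have hM' : phiMat ι e !![0, 0; Polynomial.X, 0] = M := by
      unfold phiMat
      simp only [Fin.sum_univ_two]
      simp
      rw [he10, hιX, r10']
    have k1 : phiMat ι e (A * !![0, 1; 0, 0]) = phiMat ι e (!![0, 1; 0, 0] * A) := by
      rw [phiMat_mul ι e hc hrel, phiMat_mul ι e hc hrel, hN', hgN]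
    have k2 : phiMat ι e (A * !![0, 0; Polynomial.X, 0]) =
        phiMat ι e (!![0, 0; Polynomial.X, 0] * A) := by
      rw [phiMat_mul ι e hc hrel, phiMat_mul ι e hc hrel, hM', hgM]
    have c1 := phiMat_coeff ι e hc hrel hsum (A * !![0, 1; 0, 0])
    have c1' := phiMat_coeff ι e hc hrel hsum (!![0, 1; 0, 0] * A)
    have c2 := phiMat_coeff ι e hc hrel hsum (A * !![0, 0; Polynomial.X, 0])
    have c2' := phiMat_coeff ι e hc hrel hsum (!![0, 0; Polynomial.X, 0] * A)
    have h10 : ι (A 1 0) = 0 := by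
      have h := (c1 0 0).symm.trans ((by rw [k1] : _ = _).trans (c1' 0 0))
      simpa [Matrix.mul_apply, Fin.sum_univ_two] using h.symm
    have h11 : ι (A 1 1) = ι (A 0 0) := by
      have h := (c1 0 1).symm.trans ((by rw [k1] : _ = _).trans (c1' 0 1))
      simpa [Matrix.mul_apply, Fin.sum_univ_two] using h.symm
    have h01 : ι (A 0 1) = 0 := by
      have h := (c2 0 0).symm.trans ((by rw [k2] : _ = _).trans (c2' 0 0))
      have h' : ι (A 0 1) * Γ = 0 := by
        simpa [Matrix.mul_apply, Fin.sum_univ_two, hιX] using h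
      calc ι (A 0 1) = ι (A 0 1) * Γ * Δ := by rw [mul_assoc, hΔ1, mul_one]
        _ = 0 := by rw [h', zero_mul]
    have ha2 : ι (A 0 0) * ι (A 0 0) = 1 := by
      have h := congrArg ι hA
      rw [Matrix.det_fin_two, map_sub, map_mul, map_mul, h01, h11, zero_mul, sub_zero, map_one] at h
      exact h
    rw [← phiMat_mul ι e hc hrel]
    unfold phiMat
    simp only [Fin.sum_univ_two, Matrix.mul_apply, map_add, map_mul, h01, h10, h11]
    simp only [mul_zero, zero_mul, add_zero, zero_add, ha2, one_mul]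
    exact hsum

end QuadMat

end Cfsg.Agent.Lib.Helper12
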