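import Mathlib
import Cfsg.Agent.Lib.Helper12.QuadMat
import Cfsg.Agent.Lib.Helper1.QuadAction
import Cfsg.Agent.Lib.Helper5.MinNormal

set_option autoImplicit false
set_option linter.unusedSimpArgs false
set_option linter.style.haveILetI false

/-!
Two quadratic elements generating a solvable group of odd order that acts irreducibly on an
abelian `p`-group act trivially.
-/

namespace Cfsg.Agent.Lib.Helper12

open Cfsg.Agent.Lib.Helper1 Cfsg.Agent.Lib.Helper5

theorem exists_inv_of_quad {W : Type*} [AddCommGroup W] [Finite W] (N M : AddMonoid.End W)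
    (hN : N * N = 0) (hM : M * M = 0)
    (h0 : ∀ w, N w = 0 → M w = 0 → w = 0)
    (hsum : ∀ w, ∃ u v, w = N u + M v) :
    ∃ Δ : AddMonoid.End W, (N * M + M * N) * Δ = 1 ∧ Δ * (N * M + M * N) = 1 := by
  have hNN : ∀ w, N (N w) = 0 := fun w => by
    have h := congrArg (fun f : AddMonoid.End W => f w) hN
    exact h
  have hMM : ∀ w, M (M w) = 0 := fun w => by
    have h := congrArg (fun f : AddMonoid.End W => f w) hM
    exact h
  have hinj : Function.Injective (N * M + M * N : AddMonoid.End W) := by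
    rw [injective_iff_map_eq_zero]
    intro a ha
    have ha' : N (M a) + M (N a) = 0 := ha
    obtain ⟨u, v, rfl⟩ := hsum a
    have hNa : N (N u + M v) = N (M v) := by rw [map_add, hNN, zero_add]
    have hMa : M (N u + M v) = M (N u) := by rw [map_add, hMM, add_zero]
    rw [hNa, hMa] at ha'
    have hs : N (M (N u)) = 0 := by
      apply h0
      · exact hNN _
      · have h : N (M (N u)) = - M (N (M v)) := eq_neg_of_add_eq_zero_left ha'
        rw [h, map_neg, hMM, neg_zero]
    have ht : M (N (M v)) = 0 := by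
      rw [hs, zero_add] at ha'; exact ha'
    have h1 : M (N u) = 0 := h0 _ hs (hMM _)
    have h2 : N (M v) = 0 := h0 _ (hNN _) ht
    have h3 : N u = 0 := h0 _ (hNN _) h1
    have h4 : M v = 0 := h0 _ h2 (hMM _)
    rw [h3, h4, add_zero]
  have hbij : Function.Bijective (N * M + M * N : AddMonoid.End W) :=
    ⟨hinj, Finite.surjective_of_injective hinj⟩
  obtain ⟨eq, heq⟩ : ∃ eq : W ≃+ W, ∀ w, eq w = (N * M + M * N : AddMonoid.End W) w :=
    ⟨AddEquiv.ofBijective (N * M + M * N : AddMonoid.End W) hbij, fun w => rfl⟩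
  refine ⟨eq.symm.toAddMonoidHom, ?_, ?_⟩
  · ext w
    show (N * M + M * N : AddMonoid.End W) (eq.symm w) = w
    rw [← heq, AddEquiv.apply_symm_apply]
  · ext w
    show eq.symm ((N * M + M * N : AddMonoid.End W) w) = w
    rw [← heq, AddEquiv.symm_apply_apply]

theorem comm_ident1 {A : Type*} [CommGroup A] (a b u v s : A) :
    s = a * s / (u * ((a / u) * (b / v))) * (b / v) := by
  apply Additive.ofMul.injective
  simp only [ofMul_mul, ofMul_div]
  abel

theorem comm_ident2 {A : Type*} [CommGroup A] (a b u v s : A) :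
    s = (a / u) * (b * s / (v * ((a / u) * (b / v)))) := by
  apply Additive.ofMul.injective
  simp only [ofMul_mul, ofMul_div]
  abel

theorem eq_pow_sq_of_odd {Λ : Type*} [Group Λ] [Finite Λ] (hodd : Odd (Nat.card Λ)) (z : Λ) :
    ∃ j : ℕ, z = (z * z) ^ j := by
  have h1 : Odd (orderOf z) := Odd.of_dvd_nat hodd (orderOf_dvd_natCard z)
  obtain ⟨j, hj⟩ := h1
  refine ⟨j + 1, ?_⟩
  rw [← pow_two, ← pow_mul]
  have e : 2 * (j + 1) = orderOf z + 1 := by omega
  rw [e, pow_succ, pow_orderOf_eq_one, one_mul]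

theorem quad_irr {A Λ : Type*} [CommGroup A] [Finite A] [Group Λ] [Finite Λ]
    [Group.IsSolvable Λ] (hodd : Odd (Nat.card Λ)) {p : ℕ} [hp : Fact p.Prime]
    (hA : IsPGroup p A) (φ : Λ →* MulAut A) (x y : Λ) (hgen : Subgroup.closure {x, y} = ⊤)
    (hx : ∀ v : A, φ x (φ x v / v) = φ x v / v) (hy : ∀ v : A, φ y (φ y v / v) = φ y v / v)
    (hirr : ∀ B : Subgroup A, (∀ b ∈ B, φ x b ∈ B) → (∀ b ∈ B, φ y b ∈ B) → B = ⊥ ∨ B = ⊤) :
    ∀ g : Λ, φ g = 1 := by
  classical
  by_contra hne
  have hxy : ¬ (φ x = 1 ∧ φ y = 1) := by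
    rintro ⟨h1, h2⟩
    apply hne
    intro g
    have hg : g ∈ Subgroup.closure {x, y} := by rw [hgen]; trivial
    have hle : Subgroup.closure {x, y} ≤ φ.ker := by
      rw [Subgroup.closure_le]
      rintro z (rfl | rfl)
      · exact MonoidHom.mem_ker.mpr h1
      · exact MonoidHom.mem_ker.mpr h2
    exact MonoidHom.mem_ker.mp (hle hg)
  obtain ⟨ρ, hρ⟩ : ∃ ρ : Λ →* AddMonoid.End (Additive A), ρ = (autToEnd (A := A)).comp φ :=
    ⟨_, rfl⟩
  have hρapp : ∀ g (w : Additive A), ρ g w = Additive.ofMul (φ g (Additive.toMul w)) := by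
    intro g w; rw [hρ]; rfl
  have hsubapp : ∀ (f : AddMonoid.End (Additive A)) (w : Additive A), (f - 1) w = f w - w :=
    fun f w => rfl
  have hquadE : ∀ z : Λ, (∀ v : A, φ z (φ z v / v) = φ z v / v) →
      (ρ z - 1) * (ρ z - 1) = 0 := by
    intro z hz
    ext w
    show (ρ z - 1) ((ρ z - 1) w) = 0
    rw [hsubapp, hsubapp]
    have key : ρ z (ρ z w - w) = ρ z w - w := by
      rw [hρapp, hρapp]
      have h := hz (Additive.toMul w)
      rw [toMul_sub, toMul_ofMul, h, ofMul_div, ofMul_toMul]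
    rw [key, sub_self]
  have hNN := hquadE x hx
  have hMM := hquadE y hy
  -- the common fixed points
  have h0 : ∀ w : Additive A, (ρ x - 1) w = 0 → (ρ y - 1) w = 0 → w = 0 := by
    obtain ⟨B, hB⟩ : ∃ B : Subgroup A, ∀ a, a ∈ B ↔ (φ x a = a ∧ φ y a = a) :=
      ⟨{ carrier := {a | φ x a = a ∧ φ y a = a}
         one_mem' := ⟨map_one _, map_one _⟩
         mul_mem' := by
           rintro a b ⟨h1, h2⟩ ⟨h3, h4⟩
           exact ⟨by rw [map_mul, h1, h3], by rw [map_mul, h2, h4]⟩
         inv_mem' := by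
           rintro a ⟨h1, h2⟩
           exact ⟨by rw [map_inv, h1], by rw [map_inv, h2]⟩ }, fun a => Iff.rfl⟩
    have hBx : ∀ b ∈ B, φ x b ∈ B := fun b hb => by rw [((hB b).mp hb).1]; exact hb
    have hBy : ∀ b ∈ B, φ y b ∈ B := fun b hb => by rw [((hB b).mp hb).2]; exact hb
    rcases hirr B hBx hBy with hbot | htop
    · intro w h1 h2
      rw [hsubapp, sub_eq_zero, hρapp] at h1 h2
      have hw : Additive.toMul w ∈ B := by
        rw [hB]
        exact ⟨congrArg Additive.toMul h1, congrArg Additive.toMul h2⟩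
      rw [hbot, Subgroup.mem_bot] at hw
      exact congrArg Additive.ofMul hw
    · exfalso
      apply hxy
      constructor
      · ext a
        have : a ∈ B := by rw [htop]; trivial
        exact ((hB a).mp this).1
      · ext a
        have : a ∈ B := by rw [htop]; trivial
        exact ((hB a).mp this).2
  -- the sum of the commutators
  have hsum : ∀ w : Additive A, ∃ u v, w = (ρ x - 1) u + (ρ y - 1) v := by
    obtain ⟨T, hT⟩ : ∃ T : Subgroup A, ∀ a, a ∈ T ↔ ∃ u v, a = (φ x u / u) * (φ y v / v) :=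
      ⟨{ carrier := {a | ∃ u v, a = (φ x u / u) * (φ y v / v)}
         one_mem' := ⟨1, 1, by simp⟩
         mul_mem' := by
           rintro a b ⟨u, v, rfl⟩ ⟨u', v', rfl⟩
           refine ⟨u * u', v * v', ?_⟩
           rw [map_mul, map_mul, mul_mul_mul_comm, div_mul_div_comm, div_mul_div_comm]
         inv_mem' := by
           rintro a ⟨u, v, rfl⟩
           refine ⟨u⁻¹, v⁻¹, ?_⟩
           rw [map_inv, map_inv, mul_inv, inv_div_inv, inv_div_inv, inv_div, inv_div] }, fun a => Iff.rfl⟩
    have hTx : ∀ b ∈ T, φ x b ∈ T := by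
      intro b hb
      obtain ⟨u, v, rfl⟩ := (hT b).mp hb
      rw [hT]
      refine ⟨u * ((φ x u / u) * (φ y v / v)), v, ?_⟩
      rw [map_mul (φ x) u]
      exact comm_ident1 (φ x u) (φ y v) u v _
    have hTy : ∀ b ∈ T, φ y b ∈ T := by
      intro b hb
      obtain ⟨u, v, rfl⟩ := (hT b).mp hb
      rw [hT]
      refine ⟨u, v * ((φ x u / u) * (φ y v / v)), ?_⟩
      rw [map_mul (φ y) v]
      exact comm_ident2 (φ x u) (φ y v) u v _
    rcases hirr T hTx hTy with hbot | htop
    · exfalso
      apply hxy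
      constructor
      · ext a
        have : φ x a / a ∈ T := by rw [hT]; exact ⟨a, 1, by simp⟩
        rw [hbot, Subgroup.mem_bot] at this
        exact div_eq_one.mp this
      · ext a
        have : φ y a / a ∈ T := by rw [hT]; exact ⟨1, a, by simp⟩
        rw [hbot, Subgroup.mem_bot] at this
        exact div_eq_one.mp this
    · intro w
      have hw : Additive.toMul w ∈ T := by rw [htop]; trivial
      obtain ⟨u, v, huv⟩ := (hT _).mp hw
      refine ⟨Additive.ofMul u, Additive.ofMul v, ?_⟩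
      rw [hsubapp, hsubapp, hρapp, hρapp, toMul_ofMul, toMul_ofMul, ← ofMul_div, ← ofMul_div,
        ← ofMul_mul, ← huv, ofMul_toMul]
  obtain ⟨Δ, hΔ1, hΔ2⟩ := exists_inv_of_quad (ρ x - 1) (ρ y - 1) hNN hMM h0 hsum
  obtain ⟨S, hS1, hS2, hcent⟩ := quad_mat_main (ρ x - 1) (ρ y - 1) Δ hNN hMM hΔ1 hΔ2
  rw [add_sub_cancel] at hS1 hS2
  have hS : ∀ g : Λ, ρ g ∈ S := by
    intro g
    have hg : g ∈ Subgroup.closure {x, y} := by rw [hgen]; trivial
    induction hg using Subgroup.closure_induction with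
    | mem z hz =>
      rcases hz with rfl | rfl
      · exact hS1
      · exact hS2
    | one => rw [map_one]; exact S.one_mem
    | mul a b _ _ ha hb => rw [map_mul]; exact S.mul_mem ha hb
    | inv a _ ha =>
      have h1 : a * a ^ (orderOf a - 1) = 1 := by
        rw [← pow_succ', Nat.sub_add_cancel (orderOf_pos a), pow_orderOf_eq_one]
      rw [← eq_inv_of_mul_eq_one_right h1, map_pow]
      exact S.pow_mem ha _
  -- a minimal normal subgroup over the kernel
  have hker : φ.ker ≠ ⊤ := by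
    intro h
    apply hne
    intro g
    have : g ∈ φ.ker := by rw [h]; trivial
    exact MonoidHom.mem_ker.mp this
  obtain ⟨Mn, hMn, hlt, -, hmin⟩ := exists_minimal_normal_between φ.ker ⊤ Subgroup.normal_top
    (lt_top_iff_ne_top.mpr hker)
  haveI := hMn
  obtain ⟨q, hq, hqM⟩ := minimal_over_isPGroup hlt hmin
  have hMnn : (Mn.map (QuotientGroup.mk' φ.ker)).Normal :=
    Subgroup.Normal.map hMn _ (QuotientGroup.mk'_surjective _)
  have hMne : Mn.map (QuotientGroup.mk' φ.ker) ≠ ⊥ := by
    intro h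
    rw [Subgroup.map_eq_bot_iff, QuotientGroup.ker_mk'] at h
    exact (not_le_of_gt hlt) h
  have hab := minimal_normal_comm hMne (minimal_quotient hlt.le hmin)
  have hKab : ∀ a ∈ Mn, ∀ b ∈ Mn, φ (a * b) = φ (b * a) := by
    intro a ha b hb
    have h := hab _ (Subgroup.mem_map_of_mem (QuotientGroup.mk' φ.ker) ha) _
      (Subgroup.mem_map_of_mem (QuotientGroup.mk' φ.ker) hb)
    rw [QuotientGroup.mk'_apply, QuotientGroup.mk'_apply, ← QuotientGroup.mk_mul,
      ← QuotientGroup.mk_mul, QuotientGroup.eq, MonoidHom.mem_ker, map_mul, map_inv,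
      inv_mul_eq_one] at h
    exact h
  have hnotle : ¬ Mn ≤ φ.ker := not_le_of_gt hlt
  apply hnotle
  haveI : Fact q.Prime := ⟨hq⟩
  by_cases hqp : q = p
  · have hA' : IsPGroup q A := hqp ▸ hA
    -- fixed points of a `p`-group
    have hP' : IsPGroup q (Mn.map φ) := by
      rintro ⟨_, ⟨m, hm, rfl⟩⟩
      obtain ⟨j, hj⟩ := hqM ⟨QuotientGroup.mk' φ.ker m, Subgroup.mem_map_of_mem _ hm⟩
      refine ⟨j, Subtype.ext ?_⟩
      have hj' : (QuotientGroup.mk' φ.ker m) ^ q ^ j = 1 := by
        simpa only [Subgroup.coe_pow, Subgroup.coe_one] using congrArg Subtype.val hj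
      rw [QuotientGroup.mk'_apply, ← QuotientGroup.mk_pow, QuotientGroup.eq_one_iff,
        MonoidHom.mem_ker, map_pow] at hj'
      simpa only [Subgroup.coe_pow, Subgroup.coe_one] using hj'
    have hAnt : Nontrivial A := by
      by_contra hnt
      rw [not_nontrivial_iff_subsingleton] at hnt
      apply hne
      intro g
      ext a
      exact Subsingleton.elim _ _
    have hpA : q ∣ Nat.card A := by
      obtain ⟨n, hn0, hn⟩ := hA'.nontrivial_iff_card.mp hAnt
      rw [hn]
      exact dvd_pow_self _ (ne_of_gt hn0)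
    have h1fix : (1 : A) ∈ MulAction.fixedPoints (Mn.map φ) A := by
      intro g
      exact map_one (g : MulAut A)
    obtain ⟨b, hb, hb1⟩ := hP'.exists_fixed_point_of_prime_dvd_card_of_fixed_point A hpA h1fix
    obtain ⟨B, hB⟩ : ∃ B : Subgroup A, ∀ a, a ∈ B ↔ ∀ m ∈ Mn, φ m a = a :=
      ⟨{ carrier := {a | ∀ m ∈ Mn, φ m a = a}
         one_mem' := fun m _ => map_one _
         mul_mem' := by
           intro a b ha hb m hm
           rw [map_mul, ha m hm, hb m hm]
         inv_mem' := by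
           intro a ha m hm
           rw [map_inv, ha m hm] }, fun a => Iff.rfl⟩
    have hBinv : ∀ z : Λ, ∀ a ∈ B, φ z a ∈ B := by
      intro z a ha
      rw [hB] at ha ⊢
      intro m hm
      have h1 : φ m (φ z a) = φ z (φ (z⁻¹ * m * z) a) := by
        rw [← MulAut.mul_apply, ← MulAut.mul_apply, ← map_mul, ← map_mul]
        congr 2
        group
      rw [h1, ha _ (by simpa using hMn.conj_mem m hm z⁻¹)]
    have hbB : b ∈ B := by
      rw [hB]
      intro m hm
      exact hb ⟨φ m, Subgroup.mem_map_of_mem φ hm⟩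
    rcases hirr B (hBinv x) (hBinv y) with hbot | htop
    · exfalso
      rw [hbot, Subgroup.mem_bot] at hbB
      exact hb1 hbB.symm
    · intro m hm
      rw [MonoidHom.mem_ker]
      ext a
      have : a ∈ B := by rw [htop]; trivial
      exact (hB a).mp this m hm
  · -- the coprime case
    have hpp : p.Prime := hp.1
    obtain ⟨m₀, hm₀⟩ : ∃ m₀, m₀ = Nat.card ↥(Mn.map (QuotientGroup.mk' φ.ker)) := ⟨_, rfl⟩
    have hm₀c : m₀.Coprime p := by
      obtain ⟨n, hn⟩ := hqM.exists_card_eq
      rw [hm₀, hn]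
      exact Nat.Coprime.pow_left n ((Nat.coprime_primes hq hpp).mpr hqp)
    have hKm : ∀ k ∈ Mn, φ (k ^ m₀) = 1 := by
      intro k hk
      have e : ((⟨QuotientGroup.mk' φ.ker k, Subgroup.mem_map_of_mem _ hk⟩ :
          ↥(Mn.map (QuotientGroup.mk' φ.ker))) ^ m₀) = 1 := by
        rw [hm₀]; exact pow_card_eq_one'
      have e' : (QuotientGroup.mk' φ.ker k) ^ m₀ = 1 := by
        simpa only [Subgroup.coe_pow, Subgroup.coe_one] using congrArg Subtype.val e
      rw [QuotientGroup.mk'_apply, ← QuotientGroup.mk_pow, QuotientGroup.eq_one_iff,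
        MonoidHom.mem_ker] at e'
      exact e'
    have c1 := quad_commute_aut hA φ Mn hKab m₀ hm₀c hKm x hx
    have c2 := quad_commute_aut hA φ Mn hKab m₀ hm₀c hKm y hy
    have hcomm : ∀ z : Λ, (∀ k ∈ Mn, φ (z * z * k) = φ (k * (z * z))) →
        ∀ k ∈ Mn, ρ k * (ρ z - 1) = (ρ z - 1) * ρ k := by
      intro z hz k hk
      obtain ⟨j, hj⟩ := eq_pow_sq_of_odd hodd z
      have h1 : Commute (φ (z * z)) (φ k) := by
        have := hz k hk
        rw [map_mul φ (z * z) k, map_mul φ k (z * z)] at this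
        exact this
      have h2 : Commute (φ z) (φ k) := by
        rw [hj, map_pow]
        exact h1.pow_left j
      have h3 : ρ z * ρ k = ρ k * ρ z := by
        rw [hρ]
        show autToEnd (φ z) * autToEnd (φ k) = autToEnd (φ k) * autToEnd (φ z)
        rw [← map_mul (autToEnd (A := A)), ← map_mul (autToEnd (A := A)), h2.eq]
      rw [mul_sub, sub_mul, mul_one, one_mul, h3]
    intro k hk
    have h5 := hcent (ρ k) (hS k) (hcomm x c1 k hk) (hcomm y c2 k hk)
    have h6 : φ (k * k) = 1 := by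
      apply autToEnd_injective
      rw [map_one, map_mul, map_mul]
      rw [hρ] at h5
      exact h5
    obtain ⟨j, hj⟩ := eq_pow_sq_of_odd hodd k
    rw [MonoidHom.mem_ker, hj, map_pow, h6, one_pow]

end Cfsg.Agent.Lib.Helper12
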