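import Mathlib
import Cfsg.Agent.Lib.Helper2.ZJe
import Cfsg.Agent.Lib.Helper12.PStab
import Cfsg.Agent.Lib.Helper1.Hall2
import Cfsg.Agent.Lib.Helper6.ZJMap
import Cfsg.Agent.Lib.Helper6.PSolv3

set_option autoImplicit false
set_option linter.unusedVariables false

/-!
The ZJ-theorem for the elementary abelian version of the Thompson subgroup, for solvable groups
of odd order: `Z(J(P)) ⊓ B` is normal for every normal `p`-subgroup `B`.
-/

namespace Cfsg.Agent.Lib.Helper12.ZJeGen

open Cfsg Cfsg.Agent.Lib.Helper6 Cfsg.Agent.Lib.Helper2 Cfsg.Agent.Lib.Helper12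
open scoped commutatorElement

universe u v

theorem jSub_map {G : Type u} [Group G] {H : Type v} [Group H] (p : ℕ) (π : G →* H)
    (P : Subgroup G) (h : Set.InjOn π (P : Set G)) : (jSub p P).map π = jSub p (P.map π) := by
  apply le_antisymm
  · rw [Subgroup.map_le_iff_le_comap]
    apply sSup_le
    intro A hA
    rw [← Subgroup.map_le_iff_le_comap]
    exact le_sSup (famX_map_of_injOn p π P h A hA)
  · apply sSup_le
    intro A' hA'
    have h1 := famX_comap_of_injOn p π P h A' hA'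
    have h2 : A'.comap π ⊓ P ≤ jSub p P := le_sSup h1
    have h3 := Subgroup.map_mono (f := π) h2
    rw [map_comap_inf_of_le_map π P A' hA'.1] at h3
    exact h3

theorem zjSub_map {G : Type u} [Group G] {H : Type v} [Group H] (p : ℕ) (π : G →* H)
    (P : Subgroup G) (h : Set.InjOn π (P : Set G)) : (zjSub p P).map π = zjSub p (P.map π) := by
  unfold zjSub
  rw [← jSub_map p π P h]
  ext y
  constructor
  · rintro ⟨x, hx, rfl⟩
    obtain ⟨hx1, hx2⟩ := Subgroup.mem_inf.mp hx
    refine Subgroup.mem_inf.mpr ⟨Subgroup.mem_map_of_mem _ hx1, ?_⟩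
    rw [Subgroup.mem_centralizer_iff]
    rintro _ ⟨z, hz, rfl⟩
    rw [← map_mul, ← map_mul, (Subgroup.mem_centralizer_iff.mp hx2) z hz]
  · intro hy
    obtain ⟨hy1, hy2⟩ := Subgroup.mem_inf.mp hy
    obtain ⟨x, hx, rfl⟩ := hy1
    refine ⟨x, Subgroup.mem_inf.mpr ⟨hx, ?_⟩, rfl⟩
    rw [Subgroup.mem_centralizer_iff]
    intro z hz
    apply h (P.mul_mem (jSub_le p P hz) (jSub_le p P hx))
      (P.mul_mem (jSub_le p P hx) (jSub_le p P hz))
    rw [map_mul, map_mul]
    exact (Subgroup.mem_centralizer_iff.mp hy2) _ (Subgroup.mem_map_of_mem _ hz)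

set_option maxHeartbeats 1600000 in
theorem zj_inf_aux {p : ℕ} [Fact p.Prime] (hp2 : p ≠ 2) (X : Type u) [Group X] [Finite X]
    [Group.IsSolvable X] (hodd : Odd (Nat.card X))
    (IH : ∀ (Y : Type u) [Group Y] [Finite Y] [Group.IsSolvable Y], Odd (Nat.card Y) →
      Nat.card Y < Nat.card X → ∀ (Q : Sylow p Y) (B : Subgroup Y), B.Normal → IsPGroup p B →
        (zjSub p (Q : Subgroup Y) ⊓ B).Normal)
    (P : Sylow p X) :
    ∀ (n : ℕ) (B : Subgroup X), B.Normal → IsPGroup p B → Nat.card B ≤ n →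
      (zjSub p (P : Subgroup X) ⊓ B).Normal := by
  have hp : p.Prime := Fact.out
  obtain ⟨T, hT⟩ : ∃ T : Subgroup X, T = (P : Subgroup X) := ⟨_, rfl⟩
  rw [← hT]
  have hTp : IsPGroup p T := hT ▸ P.isPGroup'
  obtain ⟨H, hH⟩ : ∃ H, H = Cfsg.pCore p X := ⟨_, rfl⟩
  have hHn : H.Normal := hH ▸ Cfsg.Agent.Lib.Helper1.pCore_normal p
  have hHp : IsPGroup p H := hH ▸ Cfsg.Agent.Lib.Helper1.pCore_isPGroup p
  have hHT : H ≤ T := by
    rw [hH, hT]; exact Cfsg.Agent.Lib.Helper1.pCore_le_sylow P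
  have hHmax : ∀ N : Subgroup X, N.Normal → IsPGroup p N → N ≤ H := by
    intro N hN hNp
    rw [hH]; exact Cfsg.Agent.Lib.Helper1.le_pCore p hN hNp
  intro n
  induction n with
  | zero =>
    intro B _ _ hcard
    have := Nat.card_pos (α := B)
    omega
  | succ n ih =>
    intro B hBn hB hcard
    by_contra hnot
    obtain ⟨Z, hZ⟩ : ∃ Z, Z = zjSub p T := ⟨_, rfl⟩
    rw [← hZ] at ih hnot
    have hBH : B ≤ H := hHmax B hBn hB
    have hBT : B ≤ T := hBH.trans hHT
    have hTZ : ∀ t ∈ T, ∀ w ∈ Z, t * w * t⁻¹ ∈ Z := by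
      intro t ht w hw
      rw [hZ] at hw ⊢
      exact zjSub_conj p T t (Subgroup.le_normalizer ht) w hw
    have hZcomm : ∀ a ∈ Z, ∀ b ∈ Z, a * b = b * a := by
      intro a ha b hb
      rw [hZ] at ha hb
      exact zjSub_comm p T a b ha hb
    have hTN : T ≤ Subgroup.normalizer ((Z ⊓ B : Subgroup X) : Set X) := by
      intro t ht
      apply mem_normalizer_of_conj_mem_sub T _ _ ht
      intro t ht w hw
      exact Subgroup.mem_inf.mpr ⟨hTZ t ht w (Subgroup.mem_inf.mp hw).1,
        hBn.conj_mem w (Subgroup.mem_inf.mp hw).2 t⟩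
    -- the subgroup inducing a `p`-group on `B`
    obtain ⟨C, hC⟩ : ∃ C, C = Subgroup.centralizer (B : Set X) := ⟨_, rfl⟩
    have hCn : C.Normal := by rw [hC]; infer_instance
    obtain ⟨L, hL⟩ : ∃ L, L = (Cfsg.pCore p (X ⧸ C)).comap (QuotientGroup.mk' C) := ⟨_, rfl⟩
    have hLn : L.Normal := by rw [hL]; infer_instance
    have hCL : C ≤ L := by
      intro c hc
      rw [hL, Subgroup.mem_comap]
      have : QuotientGroup.mk' C c = 1 := (QuotientGroup.eq_one_iff c).mpr hc
      rw [this]; exact Subgroup.one_mem _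
    obtain ⟨P₁, hP₁⟩ : ∃ P₁, P₁ = (P : Subgroup X) ⊓ L := ⟨_, rfl⟩
    have hLle : L ≤ P₁ ⊔ C := by
      intro l hl
      have h1 : QuotientGroup.mk' C l ∈ Cfsg.pCore p (X ⧸ C) := by
        rw [hL] at hl; exact hl
      have hsurj : Function.Surjective (QuotientGroup.mk' C) := QuotientGroup.mk'_surjective C
      have h2 := Cfsg.Agent.Lib.Helper1.pCore_le_sylow (P.mapSurjective hsurj) h1
      rw [← SetLike.mem_coe, Sylow.coe_mapSurjective] at h2
      obtain ⟨x, hx, hxl⟩ := h2
      have h3 : x⁻¹ * l ∈ C := QuotientGroup.eq.mp hxl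
      have hxL : x ∈ L := by
        have e : x = l * (x⁻¹ * l)⁻¹ := by group
        rw [e]; exact L.mul_mem hl (L.inv_mem (hCL h3))
      have e : l = x * (x⁻¹ * l) := by group
      rw [e]
      exact Subgroup.mul_mem_sup (hP₁ ▸ Subgroup.mem_inf.mpr ⟨hx, hxL⟩) h3
    have htop : C ⊔ Subgroup.normalizer (P₁ : Set X) = ⊤ := by
      have h1 := frattini_inf_normal P L
      rw [← hP₁] at h1
      rw [eq_top_iff, ← h1]
      apply sup_le _ le_sup_right
      exact hLle.trans (sup_le (Subgroup.le_normalizer.trans le_sup_right) le_sup_left)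
    have hCN : C ≤ Subgroup.normalizer ((Z ⊓ B : Subgroup X) : Set X) := by
      intro c hc
      apply mem_normalizer_of_conj_mem_sub C _ _ hc
      intro c hc w hw
      have hwB := (Subgroup.mem_inf.mp hw).2
      rw [hC] at hc
      have h1 := Subgroup.mem_centralizer_iff.mp hc w hwB
      rw [← h1, mul_inv_cancel_right]
      exact hw
    -- reduction to the case where `P ⊓ L` is normal
    have hP₁n : Subgroup.normalizer (P₁ : Set X) = ⊤ := by
      by_contra hne
      apply hnot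
      rw [← Subgroup.normalizer_eq_top_iff, eq_top_iff, ← htop]
      refine sup_le hCN ?_
      obtain ⟨N, hN⟩ : ∃ N, N = Subgroup.normalizer (P₁ : Set X) := ⟨_, rfl⟩
      rw [← hN] at hne ⊢
      have hPN : (P : Subgroup X) ≤ N := by
        intro t ht
        rw [hN]
        apply mem_normalizer_of_conj_mem_sub (P : Subgroup X) _ _ ht
        intro t ht w hw
        rw [hP₁] at hw ⊢
        exact Subgroup.mem_inf.mpr
          ⟨Subgroup.mul_mem _ (Subgroup.mul_mem _ ht (Subgroup.mem_inf.mp hw).1)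
            (Subgroup.inv_mem _ ht), hLn.conj_mem w (Subgroup.mem_inf.mp hw).2 t⟩
      have hNlt : Nat.card N < Nat.card X := by
        have h1 := card_lt_card_of_lt_sub (lt_top_iff_ne_top.mpr hne)
        rwa [Subgroup.card_top] at h1
      have hoddN : Odd (Nat.card N) := Odd.of_dvd_nat hodd (Subgroup.card_subgroup_dvd_card N)
      have hBNn : (B.subgroupOf N).Normal := inferInstance
      have h1 := IH ↥N hoddN hNlt (P.subtype hPN) (B.subgroupOf N) hBNn hB.comap_subtype
      have hmap : (zjSub p ((P.subtype hPN : Sylow p ↥N) : Subgroup ↥N)).map N.subtype = Z := by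
        rw [zjSub_map p N.subtype _ (Set.injOn_of_injective N.subtype_injective),
          Sylow.coe_subtype, Subgroup.map_subgroupOf_eq_of_le hPN, hZ, hT]
      intro g hg
      apply mem_normalizer_of_conj_mem_sub N _ _ hg
      intro g hg w hw
      obtain ⟨hwZ, hwB⟩ := Subgroup.mem_inf.mp hw
      rw [← hmap] at hwZ
      obtain ⟨w', hw', rfl⟩ := hwZ
      have h2 : w' ∈ zjSub p ((P.subtype hPN : Sylow p ↥N) : Subgroup ↥N) ⊓ B.subgroupOf N :=
        Subgroup.mem_inf.mpr ⟨hw', Subgroup.mem_subgroupOf.mpr hwB⟩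
      have h3 := h1.conj_mem w' h2 ⟨g, hg⟩
      obtain ⟨h3a, h3b⟩ := Subgroup.mem_inf.mp h3
      refine Subgroup.mem_inf.mpr ⟨?_, ?_⟩
      · rw [← hmap]
        exact ⟨_, h3a, rfl⟩
      · exact Subgroup.mem_subgroupOf.mp h3b
    have hP₁H : P₁ ≤ H :=
      hHmax P₁ (Subgroup.normalizer_eq_top_iff.mp hP₁n) (P.isPGroup'.to_le (hP₁ ▸ inf_le_left))
    -- `p`-stability
    have key : ∀ (V : Subgroup X), V.Normal → IsPGroup p V →
        (∀ y ∈ Subgroup.centralizer (V : Set X), (orderOf y).Coprime p → y ∈ C) →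
        ∀ a ∈ T, (∀ v ∈ V, a * (a * v * a⁻¹ * v⁻¹) = (a * v * a⁻¹ * v⁻¹) * a) → a ∈ H := by
      intro V hVn hV hcop a haT hquad
      have h1 := quad_mem_pCore X hodd V hV (Subgroup.centralizer (V : Set X)) rfl a hquad
      obtain ⟨LV, hLV⟩ : ∃ LV, LV = (Cfsg.pCore p (X ⧸ Subgroup.centralizer (V : Set X))).comap
          (QuotientGroup.mk' (Subgroup.centralizer (V : Set X))) := ⟨_, rfl⟩
      have hLVn : LV.Normal := by rw [hLV]; infer_instance
      have haLV : a ∈ LV := by rw [hLV]; exact Subgroup.mem_comap.mpr h1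
      have himg : IsPGroup p (LV.map (QuotientGroup.mk' C)) := by
        rintro ⟨_, ⟨x, hx, rfl⟩⟩
        have hx' : QuotientGroup.mk' (Subgroup.centralizer (V : Set X)) x ∈
            Cfsg.pCore p (X ⧸ Subgroup.centralizer (V : Set X)) := by
          rw [hLV] at hx; exact hx
        obtain ⟨k, hk⟩ := (Cfsg.Agent.Lib.Helper1.pCore_isPGroup p) ⟨_, hx'⟩
        have hk' : x ^ p ^ k ∈ Subgroup.centralizer (V : Set X) := by
          have h2 := congrArg Subtype.val hk
          simp only [Subgroup.coe_pow, Subgroup.coe_one] at h2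
          rw [← map_pow] at h2
          exact (QuotientGroup.eq_one_iff _).mp h2
        obtain ⟨j, m, hm, hjm⟩ :=
          Nat.exists_eq_pow_mul_and_not_dvd (orderOf_pos (x ^ p ^ k)).ne' p hp.ne_one
        have hy2 : (x ^ p ^ k) ^ p ^ j ∈ C := by
          apply hcop _ (Subgroup.pow_mem _ hk' _)
          have h2 : ((x ^ p ^ k) ^ p ^ j) ^ m = 1 := by
            rw [← pow_mul, ← hjm, pow_orderOf_eq_one]
          have h3 : orderOf ((x ^ p ^ k) ^ p ^ j) ∣ m := orderOf_dvd_of_pow_eq_one h2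
          exact Nat.Coprime.coprime_dvd_left h3 ((Nat.Prime.coprime_iff_not_dvd hp).mpr hm).symm
        refine ⟨k + j, ?_⟩
        apply Subtype.ext
        show (QuotientGroup.mk' C x) ^ p ^ (k + j) = 1
        rw [← map_pow, pow_add, pow_mul]
        exact (QuotientGroup.eq_one_iff _).mpr hy2
      have himgn : (LV.map (QuotientGroup.mk' C)).Normal :=
        hLVn.map _ (QuotientGroup.mk'_surjective C)
      have h2 : LV.map (QuotientGroup.mk' C) ≤ Cfsg.pCore p (X ⧸ C) :=
        Cfsg.Agent.Lib.Helper1.le_pCore p himgn himg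
      have haL : a ∈ L := by
        rw [hL]; exact Subgroup.mem_comap.mpr (h2 (Subgroup.mem_map_of_mem _ haLV))
      exact hP₁H (hP₁ ▸ Subgroup.mem_inf.mpr ⟨hT ▸ haT, haL⟩)
    have hB₁le : Subgroup.normalClosure ((Z ⊓ B : Subgroup X) : Set X) ≤ B :=
      Subgroup.normalClosure_le_normal inf_le_right
    have hB₁ : Subgroup.normalClosure ((Z ⊓ B : Subgroup X) : Set X) = B := by
      by_contra hne
      have hlt := lt_of_le_of_ne hB₁le hne
      have hc := card_lt_card_of_lt_sub hlt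
      have h1 := ih _ Subgroup.normalClosure_normal (hB.to_le hB₁le) (by omega)
      have e : Z ⊓ B = Z ⊓ Subgroup.normalClosure ((Z ⊓ B : Subgroup X) : Set X) :=
        le_antisymm (le_inf inf_le_left Subgroup.le_normalClosure) (inf_le_inf_left Z hB₁le)
      rw [e] at hnot
      exact hnot h1
    have hBne : B ≠ ⊥ := by
      rintro rfl
      apply hnot
      rw [inf_bot_eq]
      infer_instance
    have hcentral : ∀ N₀ : Subgroup X, N₀.Normal → N₀ ≤ Z ⊓ B →
        N₀ ≤ Subgroup.centralizer (B : Set X) := by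
      intro N₀ hN₀ hle
      have hKn : (Subgroup.centralizer (N₀ : Set X)).Normal := inferInstance
      have h1 : Subgroup.normalClosure ((Z ⊓ B : Subgroup X) : Set X) ≤
          Subgroup.centralizer (N₀ : Set X) := by
        apply Subgroup.normalClosure_le_normal
        intro z hz
        rw [SetLike.mem_coe, Subgroup.mem_centralizer_iff]
        intro y hy
        exact hZcomm y (Subgroup.mem_inf.mp (hle hy)).1 z (Subgroup.mem_inf.mp hz).1
      rw [hB₁] at h1
      intro y hy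
      rw [Subgroup.mem_centralizer_iff]
      intro b hb
      exact ((Subgroup.mem_centralizer_iff.mp (h1 hb)) y hy).symm
    -- the derived subgroup
    have hB'lt : ⁅B, B⁆ < B :=
      Cfsg.Agent.Lib.Helper1.commutator_lt_of_pgroups hB hB Subgroup.le_normalizer hBne
    have hB'n : (⁅B, B⁆).Normal := Subgroup.commutator_normal B B
    have hYn : (Z ⊓ ⁅B, B⁆).Normal := by
      have hc := card_lt_card_of_lt_sub hB'lt
      exact ih _ hB'n (hB.to_le hB'lt.le) (by omega)
    have hB'Z : ⁅B, B⁆ ≤ Z := by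
      have h1 : ⁅Subgroup.normalClosure ((Z ⊓ B : Subgroup X) : Set X), B⁆ ≤ Z ⊓ ⁅B, B⁆ := by
        apply commutator_normalClosure_le
        intro z hz x hx
        obtain ⟨hzW, hzB⟩ := Subgroup.mem_inf.mp hz
        refine Subgroup.mem_inf.mpr ⟨?_, Subgroup.commutator_mem_commutator hzB hx⟩
        have e : ⁅z, x⁆ = z * (x * z⁻¹ * x⁻¹) := by
          simp only [commutatorElement_def]; group
        rw [e]
        exact Z.mul_mem hzW (hTZ x (hBT hx) _ (Z.inv_mem hzW))
      rw [hB₁] at h1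
      exact h1.trans inf_le_left
    have hB'c : ⁅B, B⁆ ≤ Subgroup.centralizer (B : Set X) :=
      hcentral _ hB'n (le_inf hB'Z hB'lt.le)
    -- the Frattini subgroup
    obtain ⟨Φ, hΦ⟩ : ∃ Φ, Φ = (frattini ↥B).map B.subtype := ⟨_, rfl⟩
    have hΦn : Φ.Normal := by
      apply normal_of_forall_normalizer
      intro g
      rw [hΦ]
      exact Cfsg.Agent.Lib.Helper18.normalizer_le_normalizer_map_frattini B
        (mem_normalizer_of_normal B g)
    have hΦle : Φ ≤ B := hΦ ▸ Subgroup.map_subtype_le _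
    have hΦlt : Φ < B := by
      refine lt_of_le_of_ne hΦle ?_
      intro heq
      have hfr : frattini ↥B = ⊤ := by
        apply Subgroup.map_injective B.subtype_injective
        rw [← hΦ, heq, ← MonoidHom.range_eq_map, Subgroup.range_subtype]
      have hnt : Nontrivial ↥B := by
        obtain ⟨v, hv⟩ := (Subgroup.ne_bot_iff_exists_ne_one).mp hBne
        exact ⟨⟨v, 1, hv⟩⟩
      obtain ⟨M, hM⟩ : ∃ M : Subgroup ↥B, IsCoatom M := by
        rcases IsCoatomic.eq_top_or_exists_le_coatom (⊥ : Subgroup ↥B) with h | ⟨M, hM, -⟩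
        · exact absurd h bot_ne_top
        · exact ⟨M, hM⟩
      have h1 := frattini_le_coatom hM
      rw [hfr] at h1
      exact hM.1 (top_le_iff.mp h1)
    have hpowΦ : ∀ b ∈ B, b ^ p ∈ Φ := by
      intro b hb
      rw [hΦ]
      exact ⟨⟨b, hb⟩ ^ p, Cfsg.Agent.Lib.Helper28.pow_mem_frattini hB ⟨b, hb⟩, rfl⟩
    -- the normal closure of the `p`-th powers
    obtain ⟨B₀, hB₀⟩ : ∃ B₀, B₀ = Subgroup.normalClosure {y : X | ∃ z ∈ Z ⊓ B, y = z ^ p} :=
      ⟨_, rfl⟩
    have hB₀n : B₀.Normal := hB₀ ▸ Subgroup.normalClosure_normal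
    have hB₀Φ : B₀ ≤ Φ := by
      rw [hB₀]
      apply Subgroup.normalClosure_le_normal
      rintro _ ⟨z, hz, rfl⟩
      exact hpowΦ z (Subgroup.mem_inf.mp hz).2
    have hB₀lt : B₀ < B := lt_of_le_of_lt hB₀Φ hΦlt
    have hpowB₀ : ∀ z ∈ Z ⊓ B, z ^ p ∈ B₀ := by
      intro z hz
      rw [hB₀]
      exact Subgroup.subset_normalClosure ⟨z, hz, rfl⟩
    have hB₀Z : B₀ ≤ Z := by
      have hc := card_lt_card_of_lt_sub hB₀lt
      have h1 : (Z ⊓ B₀).Normal := ih B₀ hB₀n (hB.to_le hB₀lt.le) (by omega)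
      have h2 : Subgroup.normalClosure {y : X | ∃ z ∈ Z ⊓ B, y = z ^ p} ≤ Z ⊓ B₀ := by
        apply Subgroup.normalClosure_le_normal
        rintro _ ⟨z, hz, rfl⟩
        exact Subgroup.mem_inf.mpr ⟨Z.pow_mem (Subgroup.mem_inf.mp hz).1 p, hpowB₀ z hz⟩
      rw [← hB₀] at h2
      exact h2.trans inf_le_left
    have hB₀c : B₀ ≤ Subgroup.centralizer (B : Set X) :=
      hcentral B₀ hB₀n (le_inf hB₀Z hB₀lt.le)
    -- commutators have order dividing `p`
    have hexp : ∀ c' ∈ ⁅B, B⁆, c' ^ p = 1 := by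
      let E : Subgroup X :=
        { carrier := {y | y ∈ ⁅B, B⁆ ∧ y ^ p = 1}
          one_mem' := ⟨Subgroup.one_mem _, one_pow _⟩
          mul_mem' := by
            rintro a b ⟨ha, ha'⟩ ⟨hb, hb'⟩
            refine ⟨Subgroup.mul_mem _ ha hb, ?_⟩
            have hab : Commute a b :=
              ((Subgroup.mem_centralizer_iff.mp (hB'c ha)) b (hB'lt.le hb)).symm
            rw [hab.mul_pow, ha', hb', one_mul]
          inv_mem' := by
            rintro a ⟨ha, ha'⟩
            exact ⟨Subgroup.inv_mem _ ha, by rw [inv_pow, ha', inv_one]⟩ }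
      have hEn : E.Normal := by
        refine ⟨fun y hy g => ⟨hB'n.conj_mem y hy.1 g, ?_⟩⟩
        rw [conj_pow, hy.2]; simp
      have h1 : ⁅Subgroup.normalClosure ((Z ⊓ B : Subgroup X) : Set X), B⁆ ≤ E := by
        apply commutator_normalClosure_le
        intro z hz x hx
        have hzB := (Subgroup.mem_inf.mp hz).2
        have hcc : ⁅z, x⁆ ∈ ⁅B, B⁆ := Subgroup.commutator_mem_commutator hzB hx
        refine ⟨hcc, ?_⟩
        have hcz : z * ⁅z, x⁆ = ⁅z, x⁆ * z :=
          ((Subgroup.mem_centralizer_iff.mp (hB'c hcc)) z hzB)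
        have h2 := conj_pow_of_comm z x ⁅z, x⁆ (by rw [commutatorElement_def]; group) hcz p
        have h3 : z ^ p * x * (z ^ p)⁻¹ = x := by
          have := (Subgroup.mem_centralizer_iff.mp (hB₀c (hpowB₀ z hz))) x hx
          rw [← this]; group
        rw [h3] at h2
        have h4 : ⁅z, x⁆ ^ p * x = 1 * x := by rw [one_mul]; exact h2.symm
        exact mul_right_cancel h4
      rw [hB₁] at h1
      intro c' hc'
      exact (h1 hc').2
    have hB'A : ∀ A ∈ famX p T, ⁅B, B⁆ ≤ A := by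
      intro A hA c' hc'
      apply famX_mem_of_comm p T A hA c' (hBT (hB'lt.le hc')) (hexp c' hc')
      intro a ha
      exact zjSub_comm_mem p T A hA c' a (hZ ▸ hB'Z hc') ha
    have hexA₀ : ∃ A₀ ∈ famX p T, ¬ B ≤ A₀ := by
      by_contra hcon
      push Not at hcon
      apply hnot
      have hBZ : B ≤ Z := by
        rw [hZ]
        intro b hb
        obtain ⟨A₁, hA₁⟩ := famX_nonempty p T
        refine Subgroup.mem_inf.mpr ⟨le_sSup hA₁ (hcon A₁ hA₁ hb), ?_⟩
        apply mem_centralizer_jSub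
        intro A hA a ha
        exact famX_elts_comm p T A hA a b ha (hcon A hA hb)
      rw [inf_eq_right.mpr hBZ]
      exact hBn
    obtain ⟨A₀, hA₀F, hBA₀⟩ := hexA₀
    obtain ⟨A, hAF, hBA, hBNA⟩ :=
      famX_repl hp2 p T B hTp hBn hBT A₀ hA₀F (hB'A A₀ hA₀F) hBA₀
    have hquadA : ∀ (V A' : Subgroup X), A' ∈ famX p T → V ≤ Subgroup.normalizer (A' : Set X) →
        ∀ a ∈ A', ∀ v ∈ V, a * (a * v * a⁻¹ * v⁻¹) = (a * v * a⁻¹ * v⁻¹) * a := by
      intro V A' hA' hVN a ha v hv
      have h1 : v * a⁻¹ * v⁻¹ ∈ A' :=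
        (Subgroup.mem_normalizer_iff.mp (hVN hv) a⁻¹).mp (A'.inv_mem ha)
      have h2 : a * v * a⁻¹ * v⁻¹ ∈ A' := by
        have e : a * v * a⁻¹ * v⁻¹ = a * (v * a⁻¹ * v⁻¹) := by group
        rw [e]; exact A'.mul_mem ha h1
      exact famX_elts_comm p T A' hA' _ _ ha h2
    have hAH : A ≤ H := by
      intro a ha
      exact key B hBn hB (fun y hy _ => hC ▸ hy) a (famX_le p T A hAF ha)
        (hquadA B A hAF hBNA a ha)
    obtain ⟨hAFH, hsub⟩ := famX_mono p T H A hHT hAF hAH
    obtain ⟨R, hR⟩ : ∃ R, R = jSub p H := ⟨_, rfl⟩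
    have hRn : R.Normal := by
      refine ⟨fun y hy g => ?_⟩
      rw [hR] at hy ⊢
      exact jSub_conj p H g (mem_normalizer_of_normal H g) y hy
    have hRJ : R ≤ jSub p T := hR ▸ sSup_le_sSup hsub
    have hZR : Z ≤ Subgroup.centralizer (R : Set X) := by
      rw [hZ]
      exact inf_le_right.trans (Subgroup.centralizer_le hRJ)
    have hBR : B ≤ Subgroup.centralizer (R : Set X) := by
      have h1 : Subgroup.normalClosure ((Z ⊓ B : Subgroup X) : Set X) ≤
          Subgroup.centralizer (R : Set X) :=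
        Subgroup.normalClosure_le_normal (fun z hz => hZR (Subgroup.mem_inf.mp hz).1)
      rwa [hB₁] at h1
    obtain ⟨VR, hVR⟩ : ∃ VR, VR = sInf (famX p H) := ⟨_, rfl⟩
    have hVRn : VR.Normal := by
      refine ⟨fun y hy g => ?_⟩
      rw [hVR] at hy ⊢
      exact sInf_conj_mem (fun P => famX p P) (fun P A g hA hg => famX_conj p P A g hA hg) H g
        (mem_normalizer_of_normal H g) y hy
    have hVRA : VR ≤ A := hVR ▸ sInf_le hAFH
    have hVRH : VR ≤ H := hVRA.trans hAH
    have hVRp : IsPGroup p VR := hHp.to_le hVRH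
    have hVRcomm : ∀ a ∈ VR, ∀ b ∈ VR, a * b = b * a := fun a ha b hb =>
      famX_elts_comm p T A hAF a b (hVRA ha) (hVRA hb)
    have hΩ : ∀ b ∈ B, b ^ p = 1 → b ∈ VR := by
      intro b hb hbp
      rw [hVR, Subgroup.mem_sInf]
      intro A' hA'
      apply famX_mem_of_comm p H A' hA' b (hBH hb) hbp
      intro a ha
      exact (Subgroup.mem_centralizer_iff.mp (hBR hb)) a (hR ▸ le_sSup hA' ha)
    have hcopVR : ∀ y ∈ Subgroup.centralizer (VR : Set X), (orderOf y).Coprime p → y ∈ C := by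
      intro y hy hyo
      rw [hC, Subgroup.mem_centralizer_iff]
      intro b hb
      exact Cfsg.Agent.S2910.centralizes_of_omega hp2 B hB y (mem_normalizer_of_normal B y) hyo
        (fun a ha hap => (Subgroup.mem_centralizer_iff.mp hy) a (hΩ a ha hap)) b hb
    have hall : ∀ A₂ ∈ famX p T, VR ≤ A₂ := by
      intro A₂ hA₂
      by_contra hnle
      have hcomm0 : ⁅VR, VR⁆ ≤ A₂ := by
        have h0 : ⁅VR, VR⁆ = ⊥ := by
          rw [Subgroup.commutator_eq_bot_iff_le_centralizer]
          intro a ha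
          show a ∈ Subgroup.centralizer _
          rw [Subgroup.mem_centralizer_iff]
          intro b hb
          exact hVRcomm b hb a ha
        rw [h0]; exact bot_le
      obtain ⟨A₃, hA₃F, hVA₃, hVNA₃⟩ :=
        famX_repl hp2 p T VR hTp hVRn (hVRH.trans hHT) A₂ hA₂ hcomm0 hnle
      have hA₃H : A₃ ≤ H := by
        intro a ha
        exact key VR hVRn hVRp hcopVR a (famX_le p T A₃ hA₃F ha) (hquadA VR A₃ hA₃F hVNA₃ a ha)
      have h5 := (famX_mono p T H A₃ hHT hA₃F hA₃H).1
      exact hVA₃ (hVR ▸ sInf_le h5)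
    have hFsub : famX p T ⊆ famX p H := by
      intro A₂ hA₂
      have hA₂H : A₂ ≤ H := by
        intro a ha
        apply key VR hVRn hVRp hcopVR a (famX_le p T A₂ hA₂ ha)
        intro v hv
        have hav := famX_elts_comm p T A₂ hA₂ a v ha (hall A₂ hA₂ hv)
        have e : a * v * a⁻¹ * v⁻¹ = 1 := by rw [hav]; group
        rw [e, mul_one, one_mul]
      exact (famX_mono p T H A₂ hHT hA₂ hA₂H).1
    have hFeq : famX p H = famX p T := Set.Subset.antisymm hsub hFsub
    have hJeq : jSub p T = R := by rw [hR]; unfold jSub; rw [hFeq]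
    apply hnot
    have hZn : Z.Normal := by
      rw [hZ]; unfold zjSub; rw [hJeq]; infer_instance
    infer_instance

/-- The ZJ-theorem (elementary abelian version) for solvable groups of odd order: `Z(J(P)) ⊓ B`
is normal for every normal `p`-subgroup `B`. -/
theorem zj_inf_normal {p : ℕ} [Fact p.Prime] (hp2 : p ≠ 2) :
    ∀ (n : ℕ) (X : Type u) [Group X] [Finite X] [Group.IsSolvable X], Odd (Nat.card X) →
      Nat.card X ≤ n → ∀ (P : Sylow p X) (B : Subgroup X), B.Normal → IsPGroup p B →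
        (zjSub p (P : Subgroup X) ⊓ B).Normal := by
  intro n
  induction n with
  | zero =>
    intro X _ _ _ _ hcard
    have := Nat.card_pos (α := X)
    omega
  | succ n IH =>
    intro X _ _ _ hodd hcard P B hBn hB
    refine zj_inf_aux hp2 X hodd ?_ P (Nat.card B) B hBn hB le_rfl
    intro Y _ _ _ hoddY hlt Q B' hB'n hB'
    exact IH Y hoddY (by omega) Q B' hB'n hB'

/-- `Z(J(P))` is normal in a solvable group of odd order with `O_{p'} = 1`. -/
theorem zjSub_normal {p : ℕ} [Fact p.Prime] (hp2 : p ≠ 2) (X : Type u) [Group X] [Finite X]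
    [Group.IsSolvable X] (hodd : Odd (Nat.card X)) (hO : Cfsg.pPrimeCore p X = ⊥)
    (P : Sylow p X) : (zjSub p (P : Subgroup X)).Normal := by
  obtain ⟨T, hT⟩ : ∃ T : Subgroup X, T = (P : Subgroup X) := ⟨_, rfl⟩
  obtain ⟨H, hH⟩ : ∃ H, H = Cfsg.pCore p X := ⟨_, rfl⟩
  have hHn : H.Normal := hH ▸ Cfsg.Agent.Lib.Helper1.pCore_normal p
  have hHp : IsPGroup p H := hH ▸ Cfsg.Agent.Lib.Helper1.pCore_isPGroup p
  have hHT : H ≤ T := by
    rw [hH, hT]; exact Cfsg.Agent.Lib.Helper1.pCore_le_sylow P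
  have hcent : Subgroup.centralizer (H : Set X) ≤ H := by
    rw [hH]; exact Cfsg.Agent.Lib.Helper1.centralizer_pCore_le p hO
  have hZH : zjSub p T ≤ H := by
    intro a ha
    have haT : a ∈ T := jSub_le p T (Subgroup.mem_inf.mp ha).1
    have hquad : QuadOn H a := by
      intro v hv
      have h1 : v * a⁻¹ * v⁻¹ ∈ zjSub p T :=
        zjSub_conj p T v (Subgroup.le_normalizer (hHT hv)) a⁻¹ (Subgroup.inv_mem _ ha)
      have h2 : a * v * a⁻¹ * v⁻¹ ∈ zjSub p T := by
        have e : a * v * a⁻¹ * v⁻¹ = a * (v * a⁻¹ * v⁻¹) := by group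
        rw [e]; exact Subgroup.mul_mem _ ha h1
      exact zjSub_comm p T _ _ ha h2
    have h1 := quad_mem_pCore X hodd H hHp (Subgroup.centralizer (H : Set X)) rfl a hquad
    have hLn : ((Cfsg.pCore p (X ⧸ Subgroup.centralizer (H : Set X))).comap
        (QuotientGroup.mk' (Subgroup.centralizer (H : Set X)))).Normal := inferInstance
    have hLp : IsPGroup p ((Cfsg.pCore p (X ⧸ Subgroup.centralizer (H : Set X))).comap
        (QuotientGroup.mk' (Subgroup.centralizer (H : Set X)))) := by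
      apply IsPGroup.comap_of_ker_isPGroup (Cfsg.Agent.Lib.Helper1.pCore_isPGroup p)
      rw [QuotientGroup.ker_mk']
      exact hHp.to_le hcent
    have h3 := Cfsg.Agent.Lib.Helper1.le_pCore p hLn hLp
    rw [← hH] at h3
    exact h3 (Subgroup.mem_comap.mpr h1)
  have h := zj_inf_normal hp2 (Nat.card X) X hodd le_rfl P H hHn hHp
  rw [← hT, inf_eq_left.mpr hZH] at h
  rw [← hT]
  exact h

end Cfsg.Agent.Lib.Helper12.ZJeGen
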